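import Cfsg.Agent.Lib.CoThreeStd.Facts
import Cfsg.Agent.Lib.ClassicalAut.SymplecticEven
import Cfsg.Agent.Lib.Fi22Pres.OrthPointSix
import Cfsg.Agent.Lib.Layer.StandardRankOne

/-!
A standard copy of the double cover of Sp(6, 2): its normaliser is the copy times its centraliser.
-/

set_option autoImplicit false
set_option linter.style.haveILetI false

open scoped commutatorElement

namespace CfsgLib.CoThreeStd

open CfsgLib.CoThreeUniq

universe u

/-- the symplectic group -/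
abbrev Sp62 : Type := Matrix.symplecticGroup (Fin 3) (ZMod 2)

theorem center_Sp62 : Subgroup.center Sp62 = ⊥ := CfsgLib.Schur.SpSixTwo.center_eq_bot (F := ZMod 2) (by decide)

theorem zmod_two_cases : ∀ a : ZMod 2, a = 0 ∨ a = 1 := by decide

/-- Every automorphism of the symplectic group is inner. -/
theorem aut_inner (β : MulAut Sp62) : ∃ g : Sp62, ∀ s, β s = g * s * g⁻¹ := by
  haveI : Fact (Nat.Prime 2) := ⟨Nat.prime_two⟩
  let eP : Cfsg.PSp 3 (ZMod 2) ≃* Sp62 :=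
    (QuotientGroup.quotientMulEquivOfEq center_Sp62).trans QuotientGroup.quotientBot
  have heP : ∀ s : Sp62, eP (QuotientGroup.mk s) = s := fun s => rfl
  obtain ⟨g, σ, hg, hind⟩ := CfsgLib.ClassicalAut.Symp.exists_semilinear (F := ZMod 2) (m := 3)
    (by norm_num) (Or.inl le_rfl) ((eP.trans β).trans eP.symm)
  obtain ⟨c, hc⟩ := hg
  have hone := zmod_two_cases
  have hc1 : (c : ZMod 2) = 1 := (hone _).resolve_left c.ne_zero
  have hσ : ∀ a, σ a = a := fun a => by
    rcases hone a with rfl | rfl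
    · exact map_zero σ
    · exact map_one σ
  have hgS : (g : Matrix (Fin 3 ⊕ Fin 3) (Fin 3 ⊕ Fin 3) (ZMod 2)) ∈ Matrix.symplecticGroup (Fin 3) (ZMod 2) :=
    CfsgLib.ClassicalAut.Symp.mem_symplecticGroup_iff_form.2 fun u v => by rw [hc, hc1, one_mul]
  refine ⟨⟨_, hgS⟩, fun s => ?_⟩
  have hinv : (((⟨_, hgS⟩ : Sp62)⁻¹ : Sp62) : Matrix (Fin 3 ⊕ Fin 3) (Fin 3 ⊕ Fin 3) (ZMod 2)) =
      ((g⁻¹ : GL (Fin 3 ⊕ Fin 3) (ZMod 2)) : Matrix (Fin 3 ⊕ Fin 3) (Fin 3 ⊕ Fin 3) (ZMod 2)) := by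
    refine (left_inv_eq_right_inv ?_ g.mul_inv).trans rfl
    exact congrArg Subtype.val (inv_mul_cancel (⟨_, hgS⟩ : Sp62))
  have h := congrArg eP (hind s (⟨_, hgS⟩ * s * (⟨_, hgS⟩ : Sp62)⁻¹) (by
    have e : (s : Matrix (Fin 3 ⊕ Fin 3) (Fin 3 ⊕ Fin 3) (ZMod 2)).map σ = s := by
      ext i j; exact hσ _
    rw [e, Submonoid.coe_mul, Submonoid.coe_mul, hinv]))
  simp only [MulEquiv.trans_apply, MulEquiv.apply_symm_apply, heP] at h
  exact h

/-- Every automorphism of the double cover is inner. -/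
theorem aut_P (θ : MulAut P) : ∃ p : P, ∀ x, θ x = p * x * p⁻¹ := by
  have hcz : ∀ x, x ∈ rho.ker ↔ θ x ∈ rho.ker := fun x => by
    rw [← center_P]
    constructor
    · intro h
      rw [Subgroup.mem_center_iff] at h ⊢
      intro y
      rw [← θ.apply_symm_apply y, ← map_mul, ← map_mul, h]
    · intro h
      rw [Subgroup.mem_center_iff] at h ⊢
      intro y
      refine θ.injective ?_
      rw [map_mul, map_mul, h]
  have hwd : ∀ x y, rho x = rho y → rho (θ x) = rho (θ y) := fun x y e => by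
    have h : θ (x⁻¹ * y) ∈ rho.ker :=
      (hcz _).1 (by rw [MonoidHom.mem_ker, map_mul, map_inv, e, inv_mul_cancel])
    rwa [MonoidHom.mem_ker, map_mul, map_inv, map_mul, map_inv, inv_mul_eq_one] at h
  let l : Sp62 → P := Function.surjInv rho_surjective
  have hl : ∀ a, rho (l a) = a := Function.surjInv_eq rho_surjective
  let ψ : Sp62 →* Sp62 := MonoidHom.mk' (fun a => rho (θ (l a))) fun a b => by
    rw [← map_mul, ← map_mul]
    exact hwd _ _ (by rw [map_mul, hl, hl, hl])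
  have hψ : Function.Bijective ψ := by
    refine ⟨(injective_iff_map_eq_one ψ).2 fun a ha => ?_, fun a => ?_⟩
    · rw [← hl a]
      exact (hcz _).2 ha
    · obtain ⟨x, rfl⟩ := rho_surjective a
      refine ⟨rho (θ.symm x), ?_⟩
      show rho (θ (l _)) = rho x
      rw [hwd _ (θ.symm x) (hl _), θ.apply_symm_apply]
  obtain ⟨g, hg⟩ := aut_inner (MulEquiv.ofBijective ψ hψ)
  obtain ⟨p, rfl⟩ := rho_surjective g
  refine ⟨p, fun x => ?_⟩
  let δ : P → P := fun y => p⁻¹ * θ y * p * y⁻¹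
  have hδ : ∀ y, δ y ∈ Subgroup.center P := fun y => by
    rw [center_P, MonoidHom.mem_ker]
    have e : rho (θ y) = rho p * rho y * (rho p)⁻¹ := by
      rw [← hg (rho y)]
      show rho (θ y) = rho (θ (l (rho y)))
      exact (hwd _ _ (hl _)).symm
    simp only [δ, map_mul, map_inv, e]
    group
  let d : P →* P := MonoidHom.mk' δ fun a b => by
    calc p⁻¹ * θ (a * b) * p * (a * b)⁻¹ = (p⁻¹ * θ a * p) * (p⁻¹ * θ b * p * b⁻¹) * a⁻¹ := by
          rw [map_mul]; group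
      _ = (p⁻¹ * θ a * p) * (a⁻¹ * δ b) := by rw [mul_assoc, Subgroup.mem_center_iff.1 (hδ b) a⁻¹]
      _ = _ := by simp only [δ, mul_assoc]
  have hle : commutator P ≤ d.ker := by
    rw [commutator_def, Subgroup.commutator_le]
    intro a _ b _
    rw [MonoidHom.mem_ker, map_commutatorElement, commutatorElement_eq_one_iff_mul_comm]
    exact Subgroup.mem_center_iff.1 (hδ b) _
  have h1 : p⁻¹ * θ x * p * x⁻¹ = 1 := MonoidHom.mem_ker.1 (hle (P_perfect ▸ Subgroup.mem_top x))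
  calc θ x = p * (p⁻¹ * θ x * p * x⁻¹) * x * p⁻¹ := by group
    _ = _ := by rw [h1, mul_one]

/-- the situation -/
structure Ctx (G : Type u) [Group G] where
  /-- the copy of the cover -/
  ι : P →* G
  /-- faithful -/
  inj : Function.Injective ι
  /-- standard -/
  std : Cfsg.IsStandardSubgroup ι.range

namespace Ctx

variable {G : Type u} [Group G] (c : Ctx G)

/-- the central involution -/
noncomputable def z : G := c.ι zP

/-- its centraliser -/
noncomputable def N : Subgroup G := Subgroup.centralizer ({c.z} : Set G)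

/-- the centraliser of the copy -/
noncomputable def K : Subgroup G := Subgroup.centralizer (c.ι.range : Set G)

theorem mem_K {k : G} : k ∈ c.K ↔ ∀ x : P, c.ι x * k = k * c.ι x := by
  rw [K, Subgroup.mem_centralizer_iff]
  exact ⟨fun h x => h _ ⟨x, rfl⟩, fun h _ ⟨x, hx⟩ => hx ▸ h x⟩

theorem mem_N {n : G} : n ∈ c.N ↔ n * c.z = c.z * n := by
  rw [N, Subgroup.mem_centralizer_singleton_iff]

theorem z_mem_K : c.z ∈ c.K := c.mem_K.mpr fun x => by rw [z, ← map_mul, ← map_mul, zP_comm]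

theorem z_ne : c.z ≠ 1 := fun e => zP_ne (c.inj (e.trans (map_one c.ι).symm))

theorem z_sq : c.z * c.z = 1 := by rw [z, ← map_mul, zP_sq, map_one]

theorem orderOf_z : orderOf c.z = 2 := orderOf_eq_prime (by rw [pow_two, c.z_sq]) c.z_ne

theorem z_mem_N : c.z ∈ c.N := c.mem_N.mpr rfl

theorem iota_mem_N (x : P) : c.ι x ∈ c.N := c.mem_N.mpr (by rw [z, ← map_mul, ← zP_comm, map_mul])

theorem K_le_N : c.K ≤ c.N := fun k hk => c.mem_N.mpr (c.mem_K.mp hk zP).symm

theorem central_eq {x : P} (h : ∀ y : P, y * x = x * y) : x = 1 ∨ x = zP := by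
  rw [← rho_ker, ← MonoidHom.mem_ker, ← center_P]
  exact Subgroup.mem_center_iff.2 h

theorem iota_mem_K {x : P} : c.ι x ∈ c.K ↔ rho x = 1 := by
  rw [rho_ker]
  constructor
  · exact fun h => central_eq fun y => c.inj (by rw [map_mul, map_mul, c.mem_K.1 h y])
  · rintro (rfl | rfl)
    · rw [map_one]; exact one_mem _
    · exact c.z_mem_K

variable [Finite G]

theorem norm_eq : Subgroup.normalizer (c.ι.range : Set G) = c.N := by
  refine le_antisymm (fun n hn => ?_) fun n hn =>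
    StandardRankOne.centralizer_involution_le _ c.std c.z_mem_K c.orderOf_z (c.mem_N.mp hn)
  obtain ⟨x, hx⟩ := (Subgroup.mem_normalizer_iff.mp hn c.z).1 ⟨zP, rfl⟩
  have hcen : ∀ y : P, y * x = x * y := fun y => c.inj (by
    obtain ⟨y', hy'⟩ := (Subgroup.mem_normalizer_iff''.mp hn (c.ι y)).1 ⟨y, rfl⟩
    have := c.mem_K.mp c.z_mem_K y'
    rw [map_mul, map_mul, hx]
    calc c.ι y * (n * c.z * n⁻¹) = n * ((n⁻¹ * c.ι y * n) * c.z) * n⁻¹ := by group
      _ = n * (c.z * (n⁻¹ * c.ι y * n)) * n⁻¹ := by rw [← hy', this]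
      _ = _ := by group)
  rcases central_eq hcen with rfl | rfl
  · rw [map_one] at hx
    exfalso
    refine c.z_ne ?_
    calc c.z = n⁻¹ * (n * c.z * n⁻¹) * n := by group
      _ = 1 := by rw [← hx]; group
  · rw [c.mem_N]
    exact mul_inv_eq_iff_eq_mul.mp hx.symm

theorem conj_iota {n : G} (hn : n ∈ c.N) (x : P) : ∃ x' : P, n * c.ι x * n⁻¹ = c.ι x' := by
  rw [← c.norm_eq] at hn
  obtain ⟨x', hx'⟩ := (Subgroup.mem_normalizer_iff.mp hn (c.ι x)).1 ⟨x, rfl⟩
  exact ⟨x', hx'.symm⟩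

theorem conj_K {n k : G} (hn : n ∈ c.N) (hk : k ∈ c.K) : n * k * n⁻¹ ∈ c.K := by
  refine c.mem_K.mpr fun x => ?_
  obtain ⟨x', hx'⟩ := c.conj_iota (c.N.inv_mem hn) x
  rw [inv_inv] at hx'
  calc c.ι x * (n * k * n⁻¹) = n * ((n⁻¹ * c.ι x * n) * k) * n⁻¹ := by group
    _ = n * (k * (n⁻¹ * c.ι x * n)) * n⁻¹ := by rw [hx', c.mem_K.mp hk]
    _ = _ := by group

/-- Two conjugate involutions of the centraliser of the copy are conjugate only in the normaliser. -/
theorem mem_N_of_conj {u h : G} (hu : u ∈ c.K) (h2 : orderOf u = 2) (hh : h * u * h⁻¹ ∈ c.K) : h ∈ c.N := by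
  rw [← c.norm_eq, c.std.2.2.2]
  by_contra hn
  have hodd := c.std.2.1.2 h hn
  have hm : h * u * h⁻¹ ∈ c.K ⊓ c.K.map (MulAut.conj h).toMonoidHom := ⟨hh, u, hu, rfl⟩
  have h3 := Subgroup.orderOf_dvd_natCard _ hm
  rw [← MulAut.conj_apply, MulEquiv.orderOf_eq, h2] at h3
  exact (Nat.not_even_iff_odd.mpr hodd) (even_iff_two_dvd.mpr h3)

/-- The centraliser of an involution of `K` lies in `N`. -/
theorem centralizer_le {u y : G} (hu : u ∈ c.K) (h2 : orderOf u = 2) (hy : y * u = u * y) : y ∈ c.N :=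
  c.mem_N_of_conj hu h2 (by rwa [hy, mul_inv_cancel_right])

/-- The normaliser is the copy times the centraliser. -/
theorem exists_decomp {n : G} (hn : n ∈ c.N) : ∃ p : P, (c.ι p)⁻¹ * n ∈ c.K := by
  choose f hf using c.conj_iota hn
  choose f' hf' using c.conj_iota (c.N.inv_mem hn)
  let θ : MulAut P :=
    { toFun := f
      invFun := f'
      left_inv := fun x => c.inj (by rw [← hf', ← hf]; group)
      right_inv := fun x => c.inj (by rw [← hf, ← hf']; group)
      map_mul' := fun x y => c.inj (by rw [map_mul, ← hf, ← hf, ← hf, map_mul]; group) }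
  obtain ⟨p, hp⟩ := aut_P θ
  refine ⟨p, c.mem_K.2 fun x => ?_⟩
  have e : n * c.ι x * n⁻¹ = c.ι p * c.ι x * (c.ι p)⁻¹ := by
    rw [hf x, show f x = θ x from rfl, hp, map_mul, map_mul, map_inv]
  calc c.ι x * ((c.ι p)⁻¹ * n) = (c.ι p)⁻¹ * (c.ι p * c.ι x * (c.ι p)⁻¹) * n := by group
    _ = _ := by rw [← e]; group

/-- the image of an element of the normaliser in the symplectic group -/
noncomputable def sig (n : G) : Sp62 := rho (Classical.epsilon fun p => (c.ι p)⁻¹ * n ∈ c.K)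

theorem sig_eq {n : G} {p : P} (h : (c.ι p)⁻¹ * n ∈ c.K) : c.sig n = rho p := by
  have hq : (c.ι (Classical.epsilon fun p => (c.ι p)⁻¹ * n ∈ c.K))⁻¹ * n ∈ c.K :=
    Classical.epsilon_spec (p := fun p => (c.ι p)⁻¹ * n ∈ c.K) ⟨p, h⟩
  have hm := c.K.mul_mem h (c.K.inv_mem hq)
  generalize hqdef : (Classical.epsilon fun p => (c.ι p)⁻¹ * n ∈ c.K) = q at hq hm
  rw [sig, hqdef]
  rw [mul_inv_rev, inv_inv, ← mul_assoc, mul_inv_cancel_right, ← map_inv, ← map_mul, c.iota_mem_K, map_mul,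
    map_inv, inv_mul_eq_one] at hm
  exact hm.symm

theorem sig_iota (p : P) : c.sig (c.ι p) = rho p := c.sig_eq (by rw [inv_mul_cancel]; exact one_mem _)

theorem sig_one : c.sig 1 = 1 := by rw [← map_one c.ι, c.sig_iota, map_one]

theorem sig_mul {a b : G} (ha : a ∈ c.N) (hb : b ∈ c.N) : c.sig (a * b) = c.sig a * c.sig b := by
  obtain ⟨p, hp⟩ := c.exists_decomp ha
  obtain ⟨q, hq⟩ := c.exists_decomp hb
  rw [c.sig_eq hp, c.sig_eq hq, ← map_mul]
  refine c.sig_eq ?_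
  have e : (c.ι (p * q))⁻¹ * (a * b) = ((c.ι p)⁻¹ * a) * ((c.ι q)⁻¹ * b) := by
    rw [map_mul, mul_inv_rev]
    calc (c.ι q)⁻¹ * (c.ι p)⁻¹ * (a * b) = ((c.ι q)⁻¹ * ((c.ι p)⁻¹ * a)) * b := by group
      _ = (((c.ι p)⁻¹ * a) * (c.ι q)⁻¹) * b := by rw [← map_inv _ q, c.mem_K.1 hp]
      _ = _ := by group
  rw [e]
  exact c.K.mul_mem hp hq

theorem sig_inv {a : G} (ha : a ∈ c.N) : c.sig a⁻¹ = (c.sig a)⁻¹ :=
  eq_inv_of_mul_eq_one_left (by rw [← c.sig_mul (c.N.inv_mem ha) ha, inv_mul_cancel, c.sig_one])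

theorem sig_eq_one_iff {n : G} (hn : n ∈ c.N) : c.sig n = 1 ↔ n ∈ c.K := by
  obtain ⟨p, hp⟩ := c.exists_decomp hn
  rw [c.sig_eq hp, ← c.iota_mem_K]
  constructor
  · intro h
    simpa [← mul_assoc] using c.K.mul_mem h hp
  · intro h
    simpa [mul_assoc] using c.K.mul_mem h (c.K.inv_mem hp)

theorem sig_z : c.sig c.z = 1 := by rw [z, c.sig_iota, rho_zP]

theorem commute_sig {a b : G} (ha : a ∈ c.N) (hb : b ∈ c.N) (h : a * b = b * a) :
    c.sig a * c.sig b = c.sig b * c.sig a := by rw [← c.sig_mul ha hb, h, c.sig_mul hb ha]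

end Ctx

end CfsgLib.CoThreeStd
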