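import Cfsg.Agent.Lib.CoThreeUniq.DataInvol

/-!
Witness words for the centralisers in the double cover of Sp(6, 2).
-/

set_option autoImplicit false
set_option linter.style.longLine false

namespace CfsgLib.CoThreeStd

/-- the index of the central involution -/
def zI : ℕ := 38

/-- the indices of the representatives -/
def repI : List ℕ := [422, 896, 233]

/-- the conjugation to the representative of the points -/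
noncomputable def xcw : List ℕ := [6]

/-- the elements squaring to the central involution -/
def fourI : List ℕ := [6, 10, 27, 28, 32, 46, 60, 61, 66, 88, 102, 106, 115, 131, 148, 154, 159, 161, 175, 183, 197, 221, 236, 244, 245, 247, 272, 276, 298, 303, 311, 324, 333, 336, 344, 345, 349, 357, 374, 375, 405, 410, 414, 421, 422, 425, 434, 438, 453, 465, 482, 483, 484, 501, 507, 519, 527, 544, 559, 566, 567, 571, 591, 594, 601, 620, 637, 644, 645, 676, 692, 699, 738, 746, 806, 846, 860, 876, 886, 896, 897, 901, 937, 940, 942, 945, 947, 949, 954, 978, 979, 996, 1003, 1011, 1012, 1013]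

/-- their classes -/
def fourR : List ℕ := [1, 0, 0, 0, 0, 0, 1, 1, 0, 0, 0, 0, 1, 1, 0, 1, 1, 1, 1, 0, 0, 0, 0, 0, 0, 0, 0, 0, 0, 0, 0, 0, 0, 0, 0, 0, 0, 0, 0, 0, 0, 0, 0, 0, 0, 0, 0, 0, 0, 0, 0, 0, 0, 0, 0, 1, 0, 0, 0, 1, 0, 0, 0, 0, 0, 0, 0, 0, 1, 0, 0, 0, 0, 0, 0, 0, 0, 0, 0, 1, 0, 0, 0, 0, 0, 0, 1, 0, 0, 0, 0, 0, 0, 0, 0, 0]

/-- their conjugations -/
noncomputable def fourW : List (List ℕ) := [[7,9],
  [5,8,5,9],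
  [2,4,8,9,7,4],
  [5,8,9],
  [5,7,4,9],
  [5,8],
  [2,8,9],
  [8,9],
  [5,7,5,9,6],
  [8,4,8],
  [5,7,4,9,3],
  [5,8,5],
  [2,4],
  [0],
  [5,8,9,0],
  [5],
  [0,8,9],
  [6,7,9],
  [6,8,9],
  [7,4,7,9],
  [5,7,9],
  [8,5,9],
  [8,5,8,9],
  [2,4,8,9],
  [5,7,9,3,8,4],
  [7,1,9],
  [5,7,9,5],
  [5,8,9,7,4],
  [5,7,9,7,4],
  [5,7,9,0,8,4],
  [8,9],
  [2,7,5,9],
  [7,9,5],
  [5,7,9,4],
  [5,7,5,9],
  [2,4,7,9,7,4],
  [2,4,7,9],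
  [2,7,9],
  [7,9],
  [5,8,9,5],
  [0,8,9],
  [5,7,5,9,1],
  [5,7,9,1,7,4],
  [7,4,7],
  [],
  [0,7,9],
  [7,6,9],
  [2,8,9],
  [2,8,9,5],
  [2,8,5,9],
  [5,7,4],
  [7,5,9],
  [0,2],
  [5,7,9,1,8,4],
  [2,4,8],
  [2,7,9],
  [5,7,4,9,0],
  [5],
  [2,4,7],
  [0,7,9],
  [5,7,9,3],
  [5,7,5],
  [0,8,9,4],
  [0],
  [7,4,9],
  [5,7,9,1],
  [2],
  [0,7,9,4],
  [2],
  [2,4],
  [5,7,4,9,2],
  [2,4,8,5],
  [5,7,9,0],
  [5,7],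
  [8,4,9],
  [0,8,4,9],
  [7,9,4],
  [5,7,9,7,0,4],
  [2,7,9,5],
  [],
  [8,5,8],
  [5,8,9,8,4],
  [5,7,5,9,0],
  [5,7,9,0,7,4],
  [5,7,9,8,4],
  [5,8,4],
  [6],
  [5,7,9,3,7,4],
  [8,9,5],
  [5,7,9,1,4],
  [5,7,4,9,6],
  [2,4,7,9,8,4],
  [5,8,9,0,7,4],
  [2,4,8,9,8,4],
  [0,7,4,9],
  [8,9,4]]

/-- elements centralising a representative -/
noncomputable def cenW0 : List (List ℕ) := [[8,2,8],
  [0,8,3,8]]

/-- elements centralising a representative -/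
noncomputable def cenW1 : List (List ℕ) := [[1,1],
  [6,9],
  [6,4,3]]

/-- elements centralising a representative -/
noncomputable def cenW2 : List (List ℕ) := [[1]]

/-- elements centralising the second involution -/
noncomputable def cenWy : List (List ℕ) := [[8,3,8,1],
  [7,5,7,2],
  [7,1,2,8]]

/-- a generator of the group of order nine -/
def e1W : List ℕ := [2]

/-- another generator of the group of order nine -/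
def e2W : List ℕ := [0, 2, 1, 3, 1]

/-- its centraliser in the stabiliser -/
noncomputable def eCent : List (List ℕ) := [[],
  [2],
  [6],
  [0,0,0,0],
  [0,1,3,0],
  [0,3,4,1],
  [1,1,1,1],
  [4,1,3,4],
  [4,3,0,1],
  [0,0,0,0,2],
  [0,0,0,0,6],
  [0,1,3,0,2],
  [0,1,3,0,6],
  [0,1,6,3,5],
  [0,2,1,3,1],
  [0,3,1,6,3],
  [0,3,4,1,2],
  [0,3,4,1,6],
  [1,0,2,1,3],
  [1,0,6,4,3],
  [1,1,1,1,2],
  [1,1,1,1,6],
  [2,4,1,3,4],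
  [2,4,3,0,1],
  [3,0,2,1,0],
  [3,2,5,3,4],
  [4,3,0,1,6],
  [0,1,3,1,3,4],
  [0,2,1,3,1,2],
  [0,3,1,0,5,5],
  [0,3,5,3,0,1],
  [0,6,4,3,6,1],
  [1,0,6,4,3,6],
  [0,1,3,5,2,1,3],
  [0,2,4,3,0,5,3],
  [0,0,0,0,1,1,1,1]]

/-- its conjugates -/
noncomputable def eOrb : List (List ℕ) := [[],
  [0],
  [1],
  [3],
  [4],
  [5],
  [0,0],
  [0,1],
  [0,2],
  [0,3],
  [0,5],
  [0,6],
  [1,0],
  [1,1],
  [1,3],
  [1,6],
  [3,0],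
  [3,1],
  [3,2],
  [3,4],
  [3,5],
  [3,6],
  [4,2],
  [4,6],
  [5,3],
  [0,0,1],
  [0,0,2],
  [0,0,3],
  [0,0,5],
  [0,0,6],
  [0,1,1],
  [0,1,2],
  [0,2,0],
  [0,2,3],
  [0,2,4],
  [0,2,5],
  [0,3,2],
  [0,3,6],
  [0,5,2],
  [0,5,3],
  [0,6,0],
  [0,6,1],
  [0,6,3],
  [0,6,4],
  [1,0,3],
  [1,1,2],
  [1,1,6],
  [1,3,0],
  [1,3,1],
  [1,3,4],
  [1,3,5],
  [1,6,0],
  [1,6,4],
  [3,0,1],
  [3,0,3],
  [3,1,0],
  [3,1,1],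
  [3,1,2],
  [3,1,3],
  [3,1,6],
  [3,2,4],
  [3,4,1],
  [3,4,2],
  [3,4,3],
  [3,4,6],
  [3,5,3],
  [3,6,4],
  [4,2,5],
  [4,6,1],
  [4,6,4],
  [5,3,0],
  [5,3,1],
  [5,3,4],
  [0,0,1,3],
  [0,0,1,6],
  [0,0,2,0],
  [0,0,2,1],
  [0,0,2,4],
  [0,0,3,2],
  [0,0,3,5],
  [0,0,3,6],
  [0,0,5,2],
  [0,0,5,3],
  [0,0,6,1],
  [0,2,0,1],
  [0,2,0,6],
  [0,2,3,1],
  [0,2,3,6],
  [0,2,4,1],
  [0,2,4,6],
  [0,2,5,3],
  [0,3,2,0],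
  [0,3,2,3],
  [0,3,2,5],
  [0,3,6,0],
  [0,3,6,1],
  [0,5,3,4],
  [0,6,0,0],
  [0,6,0,3],
  [0,6,3,2],
  [0,6,3,4],
  [0,6,3,6],
  [1,1,6,0],
  [1,1,6,4],
  [1,3,0,3],
  [1,3,1,0],
  [1,3,4,1],
  [1,3,4,2],
  [1,3,4,6],
  [1,3,5,3],
  [3,0,3,0],
  [3,0,3,4],
  [3,0,3,5],
  [3,1,0,5],
  [3,1,2,0],
  [3,1,3,5],
  [3,1,6,0],
  [3,2,4,6],
  [3,4,1,6],
  [3,4,2,3],
  [3,5,3,6],
  [4,2,5,3],
  [0,0,1,6,0],
  [0,0,1,6,1],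
  [0,0,1,6,4],
  [0,0,2,0,5],
  [0,0,2,1,3],
  [0,2,0,6,4]]

/-- conjugations producing a second involution -/
noncomputable def eWit : List (List ℕ) := [[0],
  [0,0],
  [0],
  [0]]

/-- their powers -/
def eExp : List ℕ := [1, 3, 2, 2]

end CfsgLib.CoThreeStd
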