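import Cfsg.Agent.Lib.CoThreeUniq.CentY
import Cfsg.Agent.Lib.CoThreeStd.Data

/-!
Checks on the table of the double cover of Sp(6, 2).
-/

set_option autoImplicit false
set_option Elab.async false
set_option maxRecDepth 20000

namespace CfsgLib.CoThreeStd

open CfsgLib.CosetEnum CfsgLib.TwistCoset CfsgLib.CoThreeUniq

/-- the word of an element of the Sylow subgroup -/
noncomputable def sWd : ℕ → ℕ → List ℕ :=
  Nat.rec (fun _ => []) (fun _ ih n => strict (sPar.at' 14 n) fun q =>
    Nat.rec [] (fun _ _ => ih (q / 16) ++ sG (q % 16)) n)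

theorem sWd_spec : ∀ (f : ℕ) {n : ℕ}, n ≤ f → n < 1024 → ok (sWd f n) = true ∧ pw (sWd f n) = sEl n := by
  have e0 : sEl 0 = 1 := keyP_inj ((sEl_spec (by norm_num)).2.trans keyP_one.symm)
  intro f
  induction f with
  | zero =>
    intro n hf hn
    obtain rfl : n = 0 := by omega
    exact ⟨rfl, pw_nil.trans e0.symm⟩
  | succ f ih =>
    intro n hf hn
    by_cases h0 : n = 0
    · subst h0
      have e : sWd (f + 1) 0 = [] := by simp only [sWd, strict_eq]; rfl
      rw [e]
      exact ⟨rfl, pw_nil.trans e0.symm⟩
    · obtain ⟨k, rfl⟩ : ∃ k, n = k + 1 := ⟨n - 1, by omega⟩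
      obtain ⟨hp, hj, he⟩ := par_facts hn h0
      have hlt : sPar.at' 14 (k + 1) / 16 < 1024 := by omega
      obtain ⟨h1, h2⟩ := ih (n := sPar.at' 14 (k + 1) / 16) (by omega) hlt
      have e : sWd (f + 1) (k + 1) =
          sWd f (sPar.at' 14 (k + 1) / 16) ++ sG (sPar.at' 14 (k + 1) % 16) := by
        simp only [sWd, strict_eq]
      rw [e]
      refine ⟨ok_append.2 ⟨h1, ok_sG hj⟩, ?_⟩
      refine keyP_inj ?_
      rw [pw_append, h2, (step_facts hlt hj (sEl_spec hlt).2).2, he, (sEl_spec hn).2]

/-- the word of an index -/
noncomputable def sW (n : ℕ) : List ℕ := sWd 1023 n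

theorem sW_spec {n : ℕ} (hn : n < 1024) : ok (sW n) = true ∧ pw (sW n) = sEl n :=
  sWd_spec 1023 (by omega) hn

/-- the index of a representative -/
noncomputable def rI (r : ℕ) : ℕ := nth repI r 0

/-- the witness that an element squaring to the central involution is conjugate to a representative -/
noncomputable def fourAt (i : ℕ) : Bool :=
  band (ltB (nth fourR i 0) 2) (band (ok (nthWord fourW i))
    (Nat.beq (key (iw (nthWord fourW i) ++ (sW (rI (nth fourR i 0)) ++ nthWord fourW i)))
      (sK (nth fourI i 0))))

/-- the check on an element squaring to the central involution -/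
noncomputable def sqAt (n : ℕ) : Bool :=
  pick (Nat.beq (sMul n n) zI) (memK n fourI) true

/-- the check that an element central modulo the central involution has a square there -/
noncomputable def zsAt (n : ℕ) : Bool :=
  pick ((List.range 6).all fun j => strict (sSt n j) fun m => strict (sMul (sSt 0 j) n) fun q =>
      Bool.or (Nat.beq q m) (Nat.beq q (sMul zI m)))
    (strict (sMul n n) fun q => Bool.or (Nat.beq q 0) (Nat.beq q zI)) true

/-- commuting with a word -/
noncomputable def comW (u w : List ℕ) : Bool := same (u ++ w) (w ++ u)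

/-- the words centralising a representative -/
noncomputable def cenW (r : ℕ) : List (List ℕ) :=
  Nat.rec cenW0 (fun k _ => Nat.rec cenW1 (fun _ _ => cenW2) k) r

/-- the check of the centre of the centraliser of a representative -/
noncomputable def midAt (r n : ℕ) : Bool :=
  strict (rI r) fun i => pick (Nat.beq (sMul n i) (sMul i n))
    (strict (sMul n n) fun q => pick (Bool.or (Nat.beq q 0) (Nat.beq q zI))
      (Nat.beq n 0 || Nat.beq n zI || Nat.beq n i || Nat.beq n (sMul i zI) ||
        (cenW r).any fun u => !comW (sW n) u) true) true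

/-- the number of elements commuting with a representative -/
noncomputable def cntR (r : ℕ) : ℕ :=
  ((List.range 1024).filter fun n => Nat.beq (sMul n (rI r)) (sMul (rI r) n)).length

theorem four_ok : fourI.length = 96 ∧ allUp (fun i => pick (ltB i 96) (fourAt i) true) 7 0 = true ∧
    allUp sqAt 10 0 = true ∧ Nat.beq (sK zI) zKey = true := by
  refine ⟨rfl, ?_, ?_, ?_⟩ <;> decide +kernel

theorem zs_ok : allUp zsAt 10 0 = true := by decide +kernel

theorem rep_ok : (List.range 3).all (fun r => Nat.beq (cntR r) 512 && ltB (rI r) 1024 &&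
    !Nat.beq (rI r) 0 && !Nat.beq (rI r) zI &&
    (cenW r).all (fun u => comW (sW (rI r)) u)) = true ∧
    ok xcw = true ∧ Nat.beq (key (iw xcw ++ (xw ++ xcw))) (sK (rI 2)) = true := by
  refine ⟨?_, ?_, ?_⟩ <;> decide +kernel

theorem mid_ok : (List.range 3).all (fun r => allUp (midAt r) 10 0) = true := by decide +kernel

/-- the check of the centre of the centraliser of the second involution -/
noncomputable def midYAt (n : ℕ) : Bool :=
  pick (same (yEW n ++ yEW n) [] || same (yEW n ++ yEW n) zw)
    (same (yEW n) [] || same (yEW n) zw || same (yEW n) yw7 || same (yEW n) (zw ++ yw7) ||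
      cenWy.any fun u => !comW (yEW n) u) true

theorem midY_ok : allUp (fun n => pick (ltB n 384) (midYAt n) true) 9 0 = true ∧
    cenWy.all (fun u => comW yw7 u) = true := by
  refine ⟨?_, ?_⟩ <;> decide +kernel

/-- the word of the first generator of the group of order nine -/
noncomputable def f1W : List ℕ := gWord e1W

/-- the word of the second generator of the group of order nine -/
noncomputable def f2W : List ℕ := gWord e2W

/-- the four cyclic subgroups -/
noncomputable def lineW (i : ℕ) : List ℕ := nthWord [f1W, f2W, f1W ++ f2W, f1W ++ (f2W ++ f2W)] i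

/-- a word repeated -/
noncomputable def repW (n : ℕ) (w : List ℕ) : List ℕ := (List.replicate n w).flatten

/-- the conjugate pair of an index -/
noncomputable def orbK (i : ℕ) : ℕ :=
  strict (key (iw (gWord (nthWord eOrb i)) ++ (f1W ++ gWord (nthWord eOrb i)))) fun a =>
    strict (key (iw (gWord (nthWord eOrb i)) ++ (f2W ++ gWord (nthWord eOrb i)))) fun b =>
      (7 * a + b) % 1000003

/-- the check of an element centralising the group of order nine -/
noncomputable def eCentAt (i : ℕ) : Bool :=
  strict 0 fun _ => comW (gWord (nthWord eCent i)) f1W && comW (gWord (nthWord eCent i)) f2W &&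
    !same (gWord (nthWord eCent i) ++ gWord (nthWord eCent i)) xw &&
    !same (gWord (nthWord eCent i) ++ gWord (nthWord eCent i)) (zw ++ xw)

/-- the check of a line: a product of conjugates has a power equal to an involution other than the first -/
noncomputable def lineAt (i : ℕ) : Bool :=
  same (lineW i ++ (lineW i ++ lineW i)) [] &&
  ((fun v => same (v ++ v) [] && !same v [] && !same v xw)
    (repW (nth eExp i 0) (lineW i ++ (iw (gWord (nthWord eWit i)) ++ (lineW i ++ gWord (nthWord eWit i))))))

theorem e_ok : (eCent.length = 36 ∧ (List.range 36).all eCentAt = true) ∧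
    newFrom ((List.range 36).map fun i => key (gWord (nthWord eCent i)) % 1000003) 0 = true ∧
    newFrom ((List.range 128).map orbK) 0 = true ∧
    (List.range 4).all lineAt = true ∧
    (comW f1W f2W && !same f1W [] && !same f2W [] && !same f2W f1W && !same f2W (f1W ++ f1W)) = true := by
  refine ⟨⟨rfl, ?_⟩, ?_, ?_, ?_, ?_⟩ <;> decide +kernel

end CfsgLib.CoThreeStd
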