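import Cfsg.Agent.Lib.CoThreeStd.Fuse
import Mathlib.GroupTheory.SchurZassenhaus
import Mathlib.GroupTheory.NoncommCoprod

/-!
The centraliser of a standard double cover of Sp(6, 2) is its centre.
-/

set_option autoImplicit false
set_option linter.style.haveILetI false

open scoped commutatorElement

namespace CfsgLib.CoThreeStd

open CfsgLib.CoThreeUniq

universe u

/-- Two commuting elements of order three, neither a power of the other, generate a group of order nine. -/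
theorem card_pair {A : Type*} [Group A] [Finite A] {a b : A} (ha : a * a * a = 1) (hb : b * b * b = 1)
    (hab : a * b = b * a) (ha1 : a ≠ 1) (hb1 : b ≠ 1) (h1 : b ≠ a) (h2 : b ≠ a * a) :
    Nat.card (Subgroup.closure ({a, b} : Set A)) = 9 := by
  haveI : Fact (Nat.Prime 3) := ⟨Nat.prime_three⟩
  have oa : orderOf a = 3 := orderOf_eq_prime (by rw [pow_succ, pow_two, ha]) ha1
  have ob : orderOf b = 3 := orderOf_eq_prime (by rw [pow_succ, pow_two, hb]) hb1
  have hcomm : ∀ (x : Subgroup.zpowers a) (y : Subgroup.zpowers b),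
      Commute ((Subgroup.zpowers a).subtype x) ((Subgroup.zpowers b).subtype y) := by
    rintro ⟨_, i, rfl⟩ ⟨_, j, rfl⟩
    exact (show Commute a b from hab).zpow_zpow i j
  let f := (Subgroup.zpowers a).subtype.noncommCoprod (Subgroup.zpowers b).subtype hcomm
  have hdis : Disjoint (Subgroup.zpowers a) (Subgroup.zpowers b) := by
    rw [Subgroup.disjoint_def]
    intro x hx hy
    by_contra hx1
    have hxo : orderOf x = 3 := by
      refine (Nat.prime_three.eq_one_or_self_of_dvd _ ?_).resolve_left fun e => hx1 (orderOf_eq_one_iff.1 e)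
      have h := Subgroup.orderOf_dvd_natCard _ hy
      rwa [Nat.card_zpowers, ob] at h
    have hb' : b ∈ Subgroup.zpowers a := by
      have h := Subgroup.eq_of_le_of_card_ge (Subgroup.zpowers_le.2 hy) (by
        rw [Nat.card_zpowers, Nat.card_zpowers, ob, hxo])
      exact Subgroup.zpowers_le.2 hx (h.symm ▸ Subgroup.mem_zpowers b)
    obtain ⟨n, hn⟩ := (orderOf_pos_iff.1 (by rw [oa]; norm_num : 0 < orderOf a)).mem_powers_iff_mem_zpowers.2 hb'
    dsimp only at hn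
    rw [← pow_mod_orderOf, oa] at hn
    have : n % 3 = 0 ∨ n % 3 = 1 ∨ n % 3 = 2 := by omega
    rcases this with e | e | e <;> simp only [e, pow_zero, pow_one, pow_two] at hn
    exacts [hb1 hn.symm, h1 hn.symm, h2 hn.symm]
  have hf : Function.Injective f := by
    refine (MonoidHom.noncommCoprod_injective _ _ hcomm).2 ⟨Subtype.val_injective, Subtype.val_injective, ?_⟩
    rw [Subgroup.range_subtype, Subgroup.range_subtype]
    exact hdis
  have hr : f.range = Subgroup.closure ({a, b} : Set A) := by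
    rw [MonoidHom.noncommCoprod_range, Subgroup.range_subtype, Subgroup.range_subtype,
      Subgroup.zpowers_eq_closure, Subgroup.zpowers_eq_closure, ← Subgroup.closure_union]
    congr 1
  rw [← hr, ← Nat.card_congr (MonoidHom.ofInjective hf).toEquiv, Nat.card_prod, Nat.card_zpowers,
    Nat.card_zpowers, oa, ob]

theorem f_cubes : f1 * f1 * f1 = 1 ∧ f2 * f2 * f2 = 1 := by
  obtain ⟨e0, e1, -, -⟩ := lineE_vals
  have h0 := (ok_lineW (i := 0) (by norm_num)).2
  have h1 := (ok_lineW (i := 1) (by norm_num)).2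
  rw [e0] at h0
  rw [e1] at h1
  exact ⟨by rw [mul_assoc, h0], by rw [mul_assoc, h1]⟩

/-- An element of order three lifts to one commuting with whatever its image commutes with. -/
theorem exists_lift_three {s : Sp62} (hs : s * s * s = 1) :
    ∃ a : P, rho a = s ∧ a * a * a = 1 ∧ ∀ x : P, rho x * s = s * rho x → x * a = a * x := by
  obtain ⟨b, rfl⟩ := rho_surjective s
  have hb3 : b * b * b = 1 ∨ b * b * b = zP := (rho_ker _).1 (by rw [map_mul, map_mul, hs])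
  have h6 : b ^ 6 = 1 := by
    rw [show 6 = 3 + 3 by rfl, pow_add, show b ^ 3 = b * b * b by rw [pow_succ, pow_two]]
    rcases hb3 with e | e <;> rw [e]
    · exact one_mul 1
    · exact zP_sq
  have ha : b ^ 4 * b ^ 4 * b ^ 4 = 1 := by
    rw [← pow_add, ← pow_add, show 4 + 4 + 4 = 6 + 6 by rfl, pow_add, h6, one_mul]
  have hra : rho (b ^ 4) = rho b := by
    rw [map_pow, pow_succ, pow_succ, pow_two, hs, one_mul]
  refine ⟨b ^ 4, hra, ha, fun x hx => ?_⟩
  rw [← hra, ← map_mul, ← map_mul] at hx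
  generalize b ^ 4 = a at ha hx ⊢
  have h := (rho_ker (x * a * x⁻¹ * a⁻¹)).1 (by
    rw [mul_assoc (x * a), ← mul_inv_rev, map_mul, map_inv, hx, mul_inv_cancel])
  rcases h with e | e
  · exact mul_inv_eq_iff_eq_mul.1 (mul_inv_eq_one.1 e)
  · exfalso
    have e' : x * a * x⁻¹ = zP * a := mul_inv_eq_iff_eq_mul.1 e
    have h3 : zP * a * (zP * a) * (zP * a) = 1 := by
      rw [← e']
      calc x * a * x⁻¹ * (x * a * x⁻¹) * (x * a * x⁻¹) = x * (a * a * a) * x⁻¹ := by group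
        _ = 1 := by rw [ha, mul_one, mul_inv_cancel]
    refine zP_ne ?_
    have hc : Commute zP a := zP_comm a
    have h := hc.mul_pow 3
    rw [pow_succ, pow_two, h3, pow_succ zP, pow_two zP, zP_sq, one_mul, pow_succ a, pow_two a, ha, mul_one] at h
    exact h.symm

namespace Ctx

variable {G : Type u} [Group G] (c : Ctx G) [Finite G]

theorem conj_by_iota {h : G} {l : P} (hw : h * c.z * h⁻¹ = c.ι l) (g : P) :
    c.ι g⁻¹ * h * c.z * (c.ι g⁻¹ * h)⁻¹ = c.ι (g⁻¹ * l * g) := by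
  rw [map_mul, map_mul, ← hw, map_inv]
  group

/-- A root of `z` in `K` makes every conjugate in the copy pure. -/
theorem root_pure {k : G} (hk : k ∈ c.K) (hkz : k * k = c.z) {h : G} (hN : h * c.z * h⁻¹ ∈ c.N)
    (h1 : h * c.z * h⁻¹ ≠ c.z) {l : P} (hw : h * c.z * h⁻¹ = c.ι l) (hl2 : l * l = 1) (hl1 : rho l ≠ 1) :
    Pure l := by
  obtain ⟨hN', h1'⟩ := c.conj_inv_props hN h1
  obtain ⟨l', hl', -, -⟩ := c.conj_mem hN' h1'
  have hm : h * k * h⁻¹ ∈ c.N := c.mem_N.2 (by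
    calc h * k * h⁻¹ * c.z = h * (k * (h⁻¹ * c.z * h⁻¹⁻¹)) * h⁻¹ := by group
      _ = h * ((h⁻¹ * c.z * h⁻¹⁻¹) * k) * h⁻¹ := by rw [hl', c.mem_K.1 hk]
      _ = _ := by group)
  have hsq : c.sig (h * k * h⁻¹) * c.sig (h * k * h⁻¹) = rho l := by
    rw [← c.sig_mul hm hm, show h * k * h⁻¹ * (h * k * h⁻¹) = h * (k * k) * h⁻¹ by group, hkz, hw, c.sig_iota]
  obtain ⟨M, hM⟩ := rho_surjective (c.sig (h * k * h⁻¹))
  rw [← hM, ← map_mul] at hsq
  have hne : l ≠ 1 := fun e => hl1 (by rw [e, map_one])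
  refine (invol_cases hl2 hne).resolve_right fun hy => ?_
  rcases (rho_ker (l⁻¹ * (M * M))).1 (by rw [map_mul, map_inv, hsq, inv_mul_cancel]) with e | e
  · exact sq_not_isY (a := M) (by rw [← inv_mul_eq_one.1 e]; exact hy)
  · exact sq_not_isY (a := M) (by rw [inv_mul_eq_iff_eq_mul.1 e]; exact isY_mul_z hy)

/-- `K` has no root of `z`. -/
theorem no_root_K [IsSimpleGroup G] {k : G} (hk : k ∈ c.K) (hkz : k * k = c.z) : False := by
  classical
  haveI : Fact (Nat.Prime 3) := ⟨Nat.prime_three⟩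
  obtain ⟨h₀, hN₀, h1₀⟩ := c.exists_fused
  obtain ⟨l, hl, hl2, hl1⟩ := c.conj_mem hN₀ h1₀
  obtain ⟨g, hg⟩ := pure_conj_zero (c.root_pure hk hkz hN₀ h1₀ hl hl2 hl1)
    fun e => hl1 (by rw [e, rho_zP])
  have hne0 : ∀ {l : P}, rho l ≠ 1 → c.ι l ≠ c.z := fun {l} hl e => hl (by rw [c.inj e, rho_zP])
  set h₂ := c.ι g * h₀ with hh₂
  have hw₂ : h₂ * c.z * h₂⁻¹ = c.ι (cls 0) := by
    have := c.conj_by_iota hl g⁻¹
    rw [inv_inv] at this
    rw [hh₂, this, ← hg]
    congr 1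
    group
  have hr0 : rho (cls 0) ≠ 1 := fun e => hl1 (by rw [← hg, map_mul, map_mul, e, map_inv, mul_one, inv_mul_cancel])
  have hN₂ : h₂ * c.z * h₂⁻¹ ∈ c.N := by rw [hw₂]; exact c.iota_mem_N _
  have h1₂ : h₂ * c.z * h₂⁻¹ ≠ c.z := by rw [hw₂]; exact hne0 hr0
  obtain ⟨hN₂', h1₂'⟩ := c.conj_inv_props hN₂ h1₂
  obtain ⟨l', hl', hl2', hl1'⟩ := c.conj_mem hN₂' h1₂'
  obtain ⟨g', hg'⟩ := pure_conj_zero (c.root_pure hk hkz hN₂' h1₂' hl' hl2' hl1')
    fun e => hl1' (by rw [e, rho_zP])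
  set h := h₂ * (c.ι g')⁻¹ with hh
  have hw : h * c.z * h⁻¹ = c.ι (cls 0) := by
    have hzg : (c.ι g')⁻¹ * c.z * c.ι g' = c.z := by rw [mul_assoc, z, ← map_mul, zP_comm, map_mul]; group
    rw [← hw₂, hh]
    calc h₂ * (c.ι g')⁻¹ * c.z * (h₂ * (c.ι g')⁻¹)⁻¹ = h₂ * ((c.ι g')⁻¹ * c.z * c.ι g') * h₂⁻¹ := by group
      _ = _ := by rw [hzg]
  have hw' : h⁻¹ * c.z * h = c.ι (cls 0) := by
    have e := c.conj_by_iota hl' g'⁻¹
    rw [inv_inv] at e
    calc h⁻¹ * c.z * h = c.ι g' * h₂⁻¹ * c.z * (c.ι g' * h₂⁻¹)⁻¹ := by rw [hh]; group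
      _ = _ := by rw [e, ← hg']; congr 1; group
  have hN : h * c.z * h⁻¹ ∈ c.N := by rw [hw]; exact c.iota_mem_N _
  have h1 : h * c.z * h⁻¹ ≠ c.z := by rw [hw]; exact hne0 hr0
  -- the action of the stabiliser
  have hS : ∀ y ∈ Xs, c.ι y * (h * c.z * h⁻¹) = h * c.z * h⁻¹ * c.ι y := fun y hy => by
    rw [hw, ← map_mul, ← map_mul, mem_Xs_iff.1 hy]
  set μ := c.mu h Xs hS with hμ
  have hm : h⁻¹ * k * h ∈ c.N := c.mem_N.2 (by
    calc h⁻¹ * k * h * c.z = h⁻¹ * (k * (h * c.z * h⁻¹)) * h := by group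
      _ = h⁻¹ * ((h * c.z * h⁻¹) * k) * h := by rw [hw, c.mem_K.1 hk]
      _ = _ := by group)
  obtain ⟨M, hM⟩ := rho_surjective (c.sig (h⁻¹ * k * h))
  have hMμ : ∀ y : Xs, rho M * μ y = μ y * rho M := fun y => by
    rw [hM, hμ, mu_apply]
    refine c.commute_sig hm (c.conj_mem_N (hS _ y.2)) ?_
    calc h⁻¹ * k * h * (h⁻¹ * c.ι y * h) = h⁻¹ * (k * c.ι y) * h := by group
      _ = h⁻¹ * (c.ι y * k) * h := by rw [c.mem_K.1 hk]
      _ = _ := by group
  have hMsq : M * M = cls 0 ∨ M * M = cls 0 * zP := by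
    have e : rho (M * M) = rho (cls 0) := by
      rw [map_mul, hM, ← c.sig_mul hm hm, show h⁻¹ * k * h * (h⁻¹ * k * h) = h⁻¹ * (k * k) * h by group, hkz, hw',
        c.sig_iota]
    rcases (rho_ker ((cls 0)⁻¹ * (M * M))).1 (by rw [map_mul, map_inv, e, inv_mul_cancel]) with e | e
    · exact Or.inl (inv_mul_eq_one.1 e).symm
    · exact Or.inr (inv_mul_eq_iff_eq_mul.1 e)
  have hx0 : ∀ {a : P}, a * M = M * a → a * cls 0 = cls 0 * a := fun {a} ha => by
    have h2 : a * (M * M) = M * M * a := by rw [← mul_assoc, ha, mul_assoc, ha, mul_assoc]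
    rcases hMsq with e | e <;> rw [e] at h2
    · exact h2
    · refine mul_right_cancel (b := zP) ?_
      rw [mul_assoc, h2, mul_assoc, zP_comm a, mul_assoc]
  have hMX : M ∈ Xs := mem_Xs_iff.2 (hx0 rfl)
  -- the kernel meets none of the lines
  have hR2 : ∀ v ∈ (μ.ker).map Xs.subtype, v * v = 1 → v = 1 ∨ v = cls 0 := by
    rintro _ ⟨v, hv, rfl⟩ hvv
    by_cases hv1 : (v : P) = 1
    · exact Or.inl hv1
    · exact Or.inr (c.inj ((c.ker_invol hN h1 (hS _ v.2) hvv hv1 hv).trans hw))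
  have hRn : ∀ y ∈ Xs, ∀ a ∈ (μ.ker).map Xs.subtype, y⁻¹ * a * y ∈ (μ.ker).map Xs.subtype := by
    rintro y hy _ ⟨a, ha, rfl⟩
    exact ⟨(⟨y, hy⟩ : Xs)⁻¹ * a * ⟨y, hy⟩, by
      simpa using (inferInstance : μ.ker.Normal).conj_mem a ha (⟨y, hy⟩ : Xs)⁻¹, rfl⟩
  obtain ⟨hf1, hf2⟩ := f_mem
  obtain ⟨hc12, -⟩ := f_facts
  obtain ⟨l0, l1, l2, l3⟩ := lineE_vals
  obtain ⟨hc1, hc2⟩ := f_cubes
  set F1 : Xs := ⟨f1, hf1⟩
  set F2 : Xs := ⟨f2, hf2⟩
  have hline : ∀ {y : Xs} {i : ℕ}, i < 4 → (y : P) = lineE i → μ y ≠ 1 := fun {y i} hi e hy =>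
    line_not_mem hRn hR2 hi (e ▸ ⟨y, hy, rfl⟩)
  have hF1 : F1 * F1 * F1 = 1 := Subtype.ext hc1
  have hF2 : F2 * F2 * F2 = 1 := Subtype.ext hc2
  have hFc : F1 * F2 = F2 * F1 := Subtype.ext hc12
  have hs1 : μ F1 * μ F1 * μ F1 = 1 := by rw [← map_mul, ← map_mul, hF1, map_one]
  have hs2 : μ F2 * μ F2 * μ F2 = 1 := by rw [← map_mul, ← map_mul, hF2, map_one]
  have hs12 : μ F1 * μ F2 = μ F2 * μ F1 := by rw [← map_mul, ← map_mul, hFc]
  have hd0 : μ F1 ≠ 1 := hline (i := 0) (by norm_num) l0.symm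
  have hd1 : μ F2 ≠ 1 := hline (i := 1) (by norm_num) l1.symm
  have hd2 : μ F2 ≠ μ F1 * μ F1 := fun e =>
    hline (y := F1 * F2) (i := 2) (by norm_num) l2.symm (by rw [map_mul, e, ← mul_assoc, hs1])
  have hd3 : μ F2 ≠ μ F1 := fun e =>
    hline (y := F1 * (F2 * F2)) (i := 3) (by norm_num) l3.symm (by rw [map_mul, map_mul, e, ← mul_assoc, hs1])
  obtain ⟨a, ra, a3, ca⟩ := exists_lift_three hs1
  obtain ⟨b, rb, b3, cb⟩ := exists_lift_three hs2
  have haM : M * a = a * M := ca M (hMμ F1)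
  have hbM : M * b = b * M := cb M (hMμ F2)
  have hab : a * b = b * a := cb a (by rw [ra, hs12])
  have ha1 : a ≠ 1 := fun e => hd0 (by rw [← ra, e, map_one])
  have hb1 : b ≠ 1 := fun e => hd1 (by rw [← rb, e, map_one])
  have hba : b ≠ a := fun e => hd3 (by rw [← ra, ← rb, e])
  have hbaa : b ≠ a * a := fun e => hd2 (by rw [← ra, ← rb, e, map_mul])
  set A : Xs := ⟨a, mem_Xs_iff.2 (hx0 haM.symm)⟩
  set B : Xs := ⟨b, mem_Xs_iff.2 (hx0 hbM.symm)⟩
  -- both generate Sylow subgroups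
  have hU : Nat.card (Subgroup.closure ({A, B} : Set Xs)) = 9 :=
    card_pair (Subtype.ext a3) (Subtype.ext b3) (Subtype.ext hab) (fun e => ha1 (congrArg Subtype.val e))
      (fun e => hb1 (congrArg Subtype.val e)) (fun e => hba (congrArg Subtype.val e))
      (fun e => hbaa (congrArg Subtype.val e))
  obtain ⟨-, n1, n2, n3, n4⟩ := f_facts
  have hE : Nat.card (Subgroup.closure ({F1, F2} : Set Xs)) = 9 :=
    card_pair hF1 hF2 hFc (fun e => n1 (congrArg Subtype.val e)) (fun e => n2 (congrArg Subtype.val e))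
      (fun e => n3 (congrArg Subtype.val e)) (fun e => n4 (congrArg Subtype.val e))
  have hsyl : ∀ U : Subgroup Xs, Nat.card U = 9 → ∃ T : Sylow 3 Xs, (T : Subgroup Xs) = U := fun U hU => by
    obtain ⟨T, hT⟩ := (IsPGroup.of_card (p := 3) (G := U) (n := 2) (by rw [hU]; norm_num)).exists_le_sylow
    refine ⟨T, (Subgroup.eq_of_le_of_card_ge hT ?_).symm⟩
    obtain ⟨j, hj⟩ := T.2.exists_card_eq
    have hd := Subgroup.card_subgroup_dvd_card (T : Subgroup Xs)
    rw [card_Xs, hj] at hd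
    rw [hj, hU]
    by_contra hlt
    have h3 : 3 ≤ j := by
      by_contra h'
      have : 3 ^ j ≤ 3 ^ 2 := Nat.pow_le_pow_right (by norm_num) (by omega)
      omega
    exact absurd ((Nat.pow_dvd_pow 3 h3).trans hd) (by norm_num)
  obtain ⟨TU, hTU⟩ := hsyl _ hU
  obtain ⟨TE, hTE⟩ := hsyl _ hE
  obtain ⟨y, hy⟩ := MulAction.exists_smul_eq Xs TU TE
  set Y : Xs := y * ⟨M, hMX⟩ * y⁻¹ with hY
  have hcent : ∀ u ∈ Subgroup.closure ({F1, F2} : Set Xs), Y * u = u * Y := by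
    intro u hu
    rw [← hTE, ← hy] at hu
    simp only [Sylow.coe_subgroup_smul, Subgroup.mem_pointwise_smul_iff_inv_smul_mem, MulAut.smul_def,
      MulAut.conj_inv_apply, hTU] at hu
    have hle : Subgroup.closure ({A, B} : Set Xs) ≤ Subgroup.centralizer ({⟨M, hMX⟩} : Set Xs) := by
      rw [Subgroup.closure_le]
      intro x hx
      rw [SetLike.mem_coe, Subgroup.mem_centralizer_singleton_iff]
      rcases hx with rfl | hx
      · exact Subtype.ext haM.symm
      · rw [Set.mem_singleton_iff.1 hx]; exact Subtype.ext hbM.symm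
    have h2 := Subgroup.mem_centralizer_singleton_iff.1 (hle hu)
    calc Y * u = y * ((⟨M, hMX⟩ : Xs) * (y⁻¹ * u * y)) * y⁻¹ := by rw [hY]; group
      _ = y * ((y⁻¹ * u * y) * ⟨M, hMX⟩) * y⁻¹ := by rw [h2]
      _ = _ := by rw [hY]; group
  have hF : ∀ {u : Xs}, u ∈ ({F1, F2} : Set Xs) → (Y : P) * u = u * Y := fun hu =>
    congrArg Subtype.val (hcent _ (Subgroup.subset_closure hu))
  obtain ⟨e0, e1⟩ := no_root Y.2 (hF (Or.inl rfl)) (hF (Or.inr rfl))
  have hY2 : (Y : P) * Y = y.1 * (M * M) * y.1⁻¹ := by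
    show y.1 * M * y.1⁻¹ * (y.1 * M * y.1⁻¹) = _
    group
  have hyx : y.1 * cls 0 * y.1⁻¹ = cls 0 := by rw [mem_Xs_iff.1 y.2, mul_inv_cancel_right]
  rcases hMsq with e | e <;> rw [e] at hY2
  · exact e0 (by rw [hY2, hyx])
  · refine e1 (hY2.trans ?_)
    rw [← zP_comm (cls 0)]
    calc y.1 * (zP * cls 0) * y.1⁻¹ = (y.1 * zP * y.1⁻¹) * (y.1 * cls 0 * y.1⁻¹) := by group
      _ = _ := by rw [conj_zP, hyx]

/-- The centraliser of the copy is its centre. -/
theorem K_eq [IsSimpleGroup G] (hbal : Cfsg.centralizerPPrimeCore 2 c.z = ⊥) {k : G} (hk : k ∈ c.K) :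
    k = 1 ∨ k = c.z := by
  classical
  haveI : Fact (Nat.Prime 2) := ⟨Nat.prime_two⟩
  let zK : c.K := ⟨c.z, c.z_mem_K⟩
  have hzc : ∀ x : c.K, x * zK = zK * x := fun x => Subtype.ext (c.mem_N.1 (c.K_le_N x.2))
  haveI hnz : (Subgroup.zpowers zK).Normal := ⟨fun n hn x => by
    obtain ⟨i, rfl⟩ := hn
    refine ⟨i, ?_⟩
    show zK ^ i = x * zK ^ i * x⁻¹
    rw [((show Commute x zK from hzc x).zpow_right i).eq, mul_inv_cancel_right]⟩
  have hoz : orderOf zK = 2 := by rw [← Subgroup.orderOf_coe]; exact c.orderOf_z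
  have hcz : Nat.card (Subgroup.zpowers zK) = 2 := by rw [Nat.card_zpowers, hoz]
  have h2K : 2 ∣ Nat.card c.K := hoz ▸ orderOf_dvd_natCard zK
  have h4K : ¬ 4 ∣ Nat.card c.K := fun h4 => by
    obtain ⟨Q, hQ⟩ := Sylow.exists_subgroup_card_pow_prime 2 (n := 2) (G := c.K) h4
    have hle : Q ≤ Subgroup.zpowers zK := fun q hq => by
      by_cases hq1 : q = 1
      · rw [hq1]; exact one_mem _
      have hd : orderOf q ∣ 2 ^ 2 := hQ ▸ Subgroup.orderOf_dvd_natCard Q hq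
      obtain ⟨j, hj, e⟩ := (Nat.dvd_prime_pow Nat.prime_two).1 hd
      have hj0 : j ≠ 0 := fun h0 => hq1 (orderOf_eq_one_iff.1 (by rw [e, h0, pow_zero]))
      have hval : ∀ {x : c.K}, orderOf x = 2 → x = zK := fun {x} hx =>
        Subtype.ext (c.K_invol x.2 (by rw [Subgroup.orderOf_coe, hx]))
      obtain rfl | rfl : j = 1 ∨ j = 2 := by omega
      · rw [hval (e.trans (pow_one 2))]
        exact Subgroup.mem_zpowers _
      · exfalso
        have h2 : orderOf (q ^ 2) = 2 := by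
          rw [orderOf_pow' q (show 2 ≠ 0 by norm_num), e]
          norm_num
        refine c.no_root_K q.2 ?_
        have h3 := congrArg Subtype.val (hval h2)
        rw [Subgroup.coe_pow, pow_two] at h3
        exact h3
    have := Subgroup.card_le_of_le hle
    rw [hQ, hcz] at this
    norm_num at this
  have hmul := (Subgroup.zpowers zK).card_mul_index
  rw [hcz] at hmul
  obtain ⟨O, hO⟩ := Subgroup.exists_right_complement'_of_coprime (N := Subgroup.zpowers zK) (by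
    rw [hcz]
    refine (Nat.prime_two.coprime_iff_not_dvd).2 fun h => h4K ?_
    rw [← hmul]
    exact Nat.mul_dvd_mul_left 2 h)
  have hodd : ¬ 2 ∣ Nat.card O := fun h => h4K (by
    rw [← hO.card_mul, hcz]
    exact Nat.mul_dvd_mul_left 2 h)
  have hOn : Odd (Nat.card O) := Nat.odd_iff.2 (by omega)
  have hchar : ∀ x : c.K, x ∈ O ↔ x ^ Nat.card O = 1 := fun x => by
    refine ⟨fun h => congrArg Subtype.val (pow_card_eq_one' (x := (⟨x, h⟩ : O))), fun h => ?_⟩
    obtain ⟨⟨⟨a, i, rfl⟩, b⟩, rfl⟩ := hO.2 x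
    change zK ^ i * (b : c.K) ∈ O
    change (zK ^ i * (b : c.K)) ^ Nat.card O = 1 at h
    have hcb : Commute (zK ^ i) (b : c.K) := ((show Commute (b : c.K) zK from hzc _).zpow_right i).symm
    have hbn : (b : c.K) ^ Nat.card O = 1 := congrArg Subtype.val (pow_card_eq_one' (x := b))
    rw [hcb.mul_pow, hbn, mul_one] at h
    have hzi : (zK ^ i) ^ 2 = 1 := by
      rw [← zpow_natCast, ← _root_.zpow_mul, mul_comm, _root_.zpow_mul, zpow_natCast, show zK ^ 2 = 1 by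
        rw [← hoz, pow_orderOf_eq_one], one_zpow]
    have : zK ^ i = 1 := by
      obtain ⟨j, hj⟩ := hOn
      rw [hj, pow_add, pow_one, pow_mul, hzi, one_pow, one_mul] at h
      exact h
    rw [this, one_mul]
    exact b.2
  set D := (O.map c.K.subtype).subgroupOf c.N with hD
  have hDn : D.Normal := ⟨fun x hx n => by
    obtain ⟨o, ho, e⟩ := (hx : (x : G) ∈ O.map c.K.subtype)
    refine ⟨⟨(n : G) * o * (n : G)⁻¹, c.conj_K n.2 o.2⟩, (hchar _).2 ?_, ?_⟩
    · refine Subtype.ext ?_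
      rw [Subgroup.coe_pow, conj_pow, show ((o : G)) ^ Nat.card O = 1 from congrArg Subtype.val ((hchar o).1 ho)]
      simp
    · show (n : G) * o * (n : G)⁻¹ = n * x * n⁻¹
      rw [show (o : G) = x from e, Subgroup.coe_inv]⟩
  have hle : O.map c.K.subtype ≤ c.N := fun x ⟨o, _, e⟩ => e ▸ c.K_le_N o.2
  have hcardD : Nat.card D = Nat.card O := by
    rw [hD, Nat.card_congr (Subgroup.subgroupOfEquivOfLe hle).toEquiv,
      ← Nat.card_congr (O.equivMapOfInjective _ c.K.subtype_injective).toEquiv]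
  have hcore : D ≤ Cfsg.pPrimeCore 2 c.N := le_sSup ⟨hDn, hcardD ▸ hOn.coprime_two_right⟩
  have hObot : O = ⊥ := by
    rw [Subgroup.eq_bot_iff_forall]
    intro o ho
    have hm : (o : G) ∈ Cfsg.centralizerPPrimeCore 2 c.z :=
      ⟨⟨o, c.K_le_N o.2⟩, hcore (show (o : G) ∈ O.map c.K.subtype from ⟨o, ho, rfl⟩), rfl⟩
    rw [hbal, Subgroup.mem_bot] at hm
    exact Subtype.ext hm
  obtain ⟨⟨⟨a, i, rfl⟩, b⟩, e⟩ := hO.2 (⟨k, hk⟩ : c.K)
  change zK ^ i * (b : c.K) = _ at e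
  have hb : (b : c.K) = 1 := Subgroup.mem_bot.1 (hObot ▸ b.2)
  rw [hb, mul_one] at e
  have e' : k = c.z ^ i := (congrArg Subtype.val e).symm.trans (Subgroup.coe_zpow ..)
  rcases Int.even_or_odd i with ⟨j, rfl⟩ | ⟨j, rfl⟩
  · refine Or.inl ?_
    rw [e', ← two_mul, _root_.zpow_mul, zpow_two, c.z_sq, one_zpow]
  · refine Or.inr ?_
    rw [e', zpow_add_one, _root_.zpow_mul, zpow_two, c.z_sq, one_zpow, one_mul]

end Ctx

end CfsgLib.CoThreeStd
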