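import Cfsg.Agent.Lib.CoThreeUniq.Cover
import Cfsg.Agent.Lib.CoThreeStd.Checks

/-!
Facts on centralisers in the double cover of Sp(6, 2).
-/

set_option autoImplicit false
set_option Elab.async false
set_option maxRecDepth 20000

namespace CfsgLib.CoThreeStd

open CfsgLib.CosetEnum CfsgLib.TwistCoset CfsgLib.CoThreeUniq

theorem sEl_zero : sEl 0 = 1 := keyP_inj ((sEl_spec (by norm_num)).2.trans keyP_one.symm)

theorem zI_lt : zI < 1024 := by norm_num [zI]

theorem sEl_zI : sEl zI = zP := by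
  obtain ⟨-, -, hz, hzw, -, -⟩ := clsKeys_facts
  refine keyP_inj ?_
  rw [(sEl_spec zI_lt).2, Nat.eq_of_beq_eq_true four_ok.2.2.2, Nat.eq_of_beq_eq_true hz, zP, keyP_pw hzw]

theorem sEl_inj {m n : ℕ} (hm : m < 1024) (hn : n < 1024) (h : sEl m = sEl n) : m = n :=
  sK_inj hm hn (by rw [← (sEl_spec hm).2, h, (sEl_spec hn).2])

theorem sEl_eq_one {m : ℕ} (hm : m < 1024) : sEl m = 1 ↔ m = 0 :=
  ⟨fun h => sEl_inj hm (by norm_num) (h.trans sEl_zero.symm), fun h => h ▸ sEl_zero⟩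

theorem sEl_eq_z {m : ℕ} (hm : m < 1024) : sEl m = zP ↔ m = zI :=
  ⟨fun h => sEl_inj hm zI_lt (h.trans sEl_zI.symm), fun h => h ▸ sEl_zI⟩

theorem sMul_eq {m n m' n' : ℕ} (hm : m < 1024) (hn : n < 1024) (hm' : m' < 1024) (hn' : n' < 1024) :
    sMul m n = sMul m' n' ↔ sEl m * sEl n = sEl m' * sEl n' := by
  obtain ⟨h1, e1⟩ := sEl_mul hm hn
  obtain ⟨h2, e2⟩ := sEl_mul hm' hn'
  exact ⟨fun h => by rw [e1, e2, h], fun h => sEl_inj h1 h2 (by rw [← e1, ← e2, h])⟩

theorem z_cases {a : P} : rho a = 1 ↔ a = 1 ∨ a = zP := rho_ker a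

theorem zP_inv : zP⁻¹ = zP := inv_eq_of_mul_eq_one_right zP_sq

theorem rho_zP : rho zP = 1 := (rho_ker zP).2 (Or.inr rfl)

theorem conj_zP (g : P) : g * zP * g⁻¹ = zP := by rw [← zP_comm g, mul_inv_cancel_right]

theorem conj_sq (g a : P) : g * a * g⁻¹ * (g * a * g⁻¹) = g * (a * a) * g⁻¹ := by group

/-- An element squaring to the central involution is conjugate to one of two representatives. -/
theorem four_conj {a : P} (ha : a * a = zP) : ∃ r < 2, ∃ g : P, g⁻¹ * sEl (rI r) * g = a := by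
  have h4 : a ^ 2 ^ 2 = 1 := by
    rw [show (2 : ℕ) ^ 2 = 2 + 2 by rfl, pow_add, pow_two, ha, zP_sq]
  obtain ⟨g, hg⟩ := conj_into_S2 h4
  obtain ⟨n, hn, e⟩ := mem_S2 hg
  have hsq : sEl n * sEl n = zP := by rw [e, conj_sq, ha, conj_zP]
  obtain ⟨hm, em⟩ := sEl_mul hn hn
  have hmz : sMul n n = zI := (sEl_eq_z hm).1 (em ▸ hsq)
  obtain ⟨hlen, hfour, hsqOK, -⟩ := four_ok
  have h := allUp_spec hsqOK n (Nat.zero_le _) (by omega)
  rw [sqAt, hmz, Nat.beq_refl, pick_true, memK_iff] at h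
  obtain ⟨i, hi, hi'⟩ := List.getElem_of_mem h
  rw [hlen] at hi
  have h2 := allUp_spec hfour i (Nat.zero_le _) (by omega)
  simp only [show ltB i 96 = true from ltB_iff.mpr hi, pick_true] at h2
  simp only [fourAt, band_eq_true, ltB_iff] at h2
  obtain ⟨hr, hok, hkey⟩ := h2
  have hlt : rI (nth fourR i 0) < 1024 := by
    have := List.all_eq_true.mp rep_ok.1 (nth fourR i 0) (List.mem_range.mpr (by omega))
    simp only [Bool.and_eq_true, ltB_iff] at this
    exact this.1.1.1.2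
  obtain ⟨hokr, hpwr⟩ := sW_spec hlt
  have hk := Nat.eq_of_beq_eq_true hkey
  rw [nth_eq fourI, List.getD_eq_getElem _ _ (hlen.symm ▸ hi), hi', ← (sEl_spec hn).2,
    ← keyP_pw (ok_append.2 ⟨ok_iw hok, ok_append.2 ⟨hokr, hok⟩⟩)] at hk
  have e' := keyP_inj hk
  rw [pw_append, pw_append, pw_iw, hpwr] at e'
  refine ⟨_, hr, pw (nthWord fourW i) * g, ?_⟩
  have ea : a = g⁻¹ * sEl n * g := by rw [e]; group
  rw [ea, ← e']
  group

theorem rep_facts {r : ℕ} (hr : r < 3) : rI r < 1024 ∧ cntR r = 512 ∧ sEl (rI r) ≠ 1 ∧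
    sEl (rI r) ≠ zP ∧ ∀ u ∈ cenW r, pw u * sEl (rI r) = sEl (rI r) * pw u := by
  have h := List.all_eq_true.mp rep_ok.1 r (List.mem_range.mpr hr)
  simp only [Bool.and_eq_true, ltB_iff, Bool.not_eq_true', List.all_eq_true] at h
  obtain ⟨⟨⟨⟨hc, hlt⟩, h0⟩, hz⟩, hw⟩ := h
  refine ⟨hlt, Nat.eq_of_beq_eq_true hc, fun e => ?_, fun e => ?_, fun u hu => ?_⟩
  · rw [(sEl_eq_one hlt).1 e, Nat.beq_refl] at h0
    exact Bool.noConfusion h0
  · rw [(sEl_eq_z hlt).1 e, Nat.beq_refl] at hz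
    exact Bool.noConfusion hz
  · rw [← (sW_spec hlt).2]
    exact (comm_of_same (hw u hu)).symm

/-- the centraliser of a representative in the Sylow subgroup -/
noncomputable def TS (r : ℕ) : Subgroup P := S2 ⊓ Subgroup.centralizer ({sEl (rI r)} : Set P)

theorem mem_TS {r : ℕ} {a : P} : a ∈ TS r ↔ a ∈ S2 ∧ a * sEl (rI r) = sEl (rI r) * a := by
  rw [TS, Subgroup.mem_inf, Subgroup.mem_centralizer_singleton_iff]

theorem rep_mem_TS {r : ℕ} (hr : r < 3) : sEl (rI r) ∈ TS r :=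
  mem_TS.2 ⟨(sEl_spec (rep_facts hr).1).1, rfl⟩

theorem card_TS {r : ℕ} (hr : r < 3) : Nat.card (TS r) = 512 := by
  classical
  obtain ⟨hlt, hc, -, -, -⟩ := rep_facts hr
  let s := (Finset.range 1024).filter fun n => Nat.beq (sMul n (rI r)) (sMul (rI r) n) = true
  have hs : s.card = 512 := by
    rw [← hc, cntR, ← List.toFinset_card_of_nodup (List.nodup_range.filter _)]
    refine congrArg Finset.card (Finset.ext fun n => ?_)
    simp [s]
  have hm : ∀ n, n ∈ s ↔ n < 1024 ∧ sEl n * sEl (rI r) = sEl (rI r) * sEl n := fun n => by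
    rw [Finset.mem_filter, Finset.mem_range]
    refine and_congr_right fun hn => ?_
    rw [Nat.beq_eq, sMul_eq hn hlt hlt hn]
  let f : s → TS r := fun n => ⟨sEl n.1, mem_TS.2
    ⟨(sEl_spec ((hm n.1).1 n.2).1).1, ((hm n.1).1 n.2).2⟩⟩
  have hf : Function.Bijective f := by
    refine ⟨fun a b h => Subtype.ext (sEl_inj ((hm _).1 a.2).1 ((hm _).1 b.2).1 (congrArg Subtype.val h)), ?_⟩
    rintro ⟨a, ha⟩
    obtain ⟨haS, hac⟩ := mem_TS.1 ha
    obtain ⟨n, hn, rfl⟩ := mem_S2 haS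
    exact ⟨⟨n, (hm n).2 ⟨hn, hac⟩⟩, rfl⟩
  rw [← Nat.card_eq_of_bijective f hf, Nat.card_eq_fintype_card, Fintype.card_coe, hs]

/-- A subgroup of order `1024` is conjugate into the table. -/
theorem conj_sylow {U : Subgroup P} (hU : Nat.card U = 1024) : ∃ g : P, ∀ u, u ∈ U ↔ g * u * g⁻¹ ∈ S2 := by
  haveI : Fact (Nat.Prime 2) := ⟨Nat.prime_two⟩
  obtain ⟨T, hT⟩ := S2_sylow
  obtain ⟨T', hT'⟩ := (IsPGroup.of_card (p := 2) (G := U) (n := 10) (by rw [hU]; norm_num)).exists_le_sylow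
  have hc : Nat.card (T' : Subgroup P) = 1024 := by
    rw [T'.card_eq_multiplicity, ← T.card_eq_multiplicity, hT, card_S2]
  have hUT : U = T' := Subgroup.eq_of_le_of_card_ge hT' (by rw [hc, hU])
  obtain ⟨g, hg⟩ := MulAction.exists_smul_eq P T' T
  refine ⟨g, fun u => ?_⟩
  rw [← hT, ← hg, hUT]
  simp only [Sylow.coe_subgroup_smul, Subgroup.mem_pointwise_smul_iff_inv_smul_mem, MulAut.smul_def,
    MulAut.conj_inv_apply, SetLike.mem_coe]
  rw [show g⁻¹ * (g * u * g⁻¹) * g = u by group]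

/-- No representative is centralised by a subgroup of order `1024`. -/
theorem not_sylow_cent {r : ℕ} (hr : r < 3) {U : Subgroup P} (hU : Nat.card U = 1024)
    (hc : ∀ u ∈ U, u * sEl (rI r) = sEl (rI r) * u) : False := by
  obtain ⟨hlt, -, h1, hz, -⟩ := rep_facts hr
  obtain ⟨g, hg⟩ := conj_sylow hU
  set a := sEl (rI r) with ha
  haveI : Fact (Nat.Prime 2) := ⟨Nat.prime_two⟩
  have hmem : a ∈ U := by
    have hp : IsPGroup 2 U := IsPGroup.of_card (n := 10) (by rw [hU]; norm_num)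
    have hA : IsPGroup 2 (Subgroup.zpowers a) :=
      (IsPGroup.of_card (p := 2) (G := S2) (n := 10) (by rw [card_S2]; norm_num)).to_le
        (Subgroup.zpowers_le.2 (sEl_spec hlt).1)
    have hnorm : U ≤ Subgroup.normalizer (Subgroup.zpowers a : Set P) := by
      refine le_trans (fun u hu => ?_) (Subgroup.centralizer_le_normalizer _)
      rw [Subgroup.mem_centralizer_iff]
      rintro _ ⟨k, rfl⟩
      exact (Commute.zpow_right (hc u hu) k).eq.symm
    have hj := hp.to_sup_of_normal_right' hA hnorm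
    obtain ⟨k, hk⟩ := hj.exists_card_eq
    obtain ⟨T, hT⟩ := S2_sylow
    obtain ⟨T', hT'⟩ := hj.exists_le_sylow
    have : Nat.card (U ⊔ Subgroup.zpowers a : Subgroup P) ≤ 1024 := by
      refine (Subgroup.card_le_of_le hT').trans ?_
      rw [T'.card_eq_multiplicity, ← T.card_eq_multiplicity, hT, card_S2]
    have he := Subgroup.eq_of_le_of_card_ge (le_sup_left (a := U) (b := Subgroup.zpowers a))
      (by rw [hU]; exact this)
    exact he ▸ le_sup_right (a := U) (Subgroup.mem_zpowers a)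
  obtain ⟨n, hn, e⟩ := mem_S2 ((hg a).1 hmem)
  have hcen : ∀ y ∈ S2, y * sEl n = sEl n * y := by
    intro y hy
    have hm : g⁻¹ * y * g ∈ U := (hg _).2 (by rwa [show g * (g⁻¹ * y * g) * g⁻¹ = y by group])
    rw [e]
    calc y * (g * a * g⁻¹) = g * ((g⁻¹ * y * g) * a) * g⁻¹ := by group
      _ = g * (a * (g⁻¹ * y * g)) * g⁻¹ := by rw [hc _ hm]
      _ = _ := by group
  rcases center_S2 hn hcen with h | h <;> rw [e] at h
  · exact hz (by rw [show a = g⁻¹ * (g * a * g⁻¹) * g by group, h, mul_assoc, zP_comm, inv_mul_cancel_left])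
  · exact h1 (conj_eq_one_iff.1 h)

/-- An element of the table central modulo the central involution has its square there. -/
theorem central_mod {a : P} (ha : a ∈ S2)
    (h : ∀ y ∈ S2, y * a = a * y ∨ y * a = zP * (a * y)) : a * a = 1 ∨ a * a = zP := by
  obtain ⟨n, hn, rfl⟩ := mem_S2 ha
  have hz := allUp_spec zs_ok n (Nat.zero_le _) (by omega)
  obtain ⟨hm, em⟩ := sEl_mul hn hn
  rw [em]
  have hcond : ((List.range 6).all fun j => strict (sSt n j) fun m => strict (sMul (sSt 0 j) n) fun q =>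
      Bool.or (Nat.beq q m) (Nat.beq q (sMul zI m))) = true := by
    rw [List.all_eq_true]
    intro j hj
    rw [List.mem_range] at hj
    rw [strict_eq, strict_eq]
    obtain ⟨hg, hgk⟩ := step_facts (a := (1 : P)) (n := 0) (by norm_num) hj keyP_one
    rw [one_mul] at hgk
    obtain ⟨hq, hqk⟩ := step_facts hn hj (sEl_spec hn).2
    have e : sEl (sSt 0 j) = pw (sG j) := keyP_inj ((sEl_spec hg).2.trans hgk.symm)
    have e' : sEl (sSt n j) = sEl n * pw (sG j) := keyP_inj ((sEl_spec hq).2.trans hqk.symm)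
    obtain ⟨hl, el⟩ := sEl_mul hg hn
    obtain ⟨hr, er⟩ := sEl_mul zI_lt hq
    simp only [Bool.or_eq_true, Nat.beq_eq]
    rcases h (pw (sG j)) (Subgroup.subset_closure ⟨j, hj, rfl⟩) with h' | h'
    · exact Or.inl (sEl_inj hl hq (by rw [← el, e, h', e']))
    · exact Or.inr (sEl_inj hl hr (by rw [← el, ← er, e, h', sEl_zI, e']))
  rw [zsAt, hcond, pick_true, strict_eq, Bool.or_eq_true, Nat.beq_eq, Nat.beq_eq] at hz
  exact hz.imp (fun e => (sEl_eq_one hm).2 e) (fun e => (sEl_eq_z hm).2 e)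

/-- the centre of the centraliser holds nothing else squaring into the centre -/
def Mid (a : P) : Prop := ∀ b : P, (∀ x : P, x * a = a * x → x * b = b * x) →
  (b * b = 1 ∨ b * b = zP) → rho b = 1 ∨ rho b = rho a

theorem mid_conj {a : P} (h : Mid a) (g : P) : Mid (g⁻¹ * a * g) := by
  intro b hb hsq
  have hsq' : g * b * g⁻¹ * (g * b * g⁻¹) = 1 ∨ g * b * g⁻¹ * (g * b * g⁻¹) = zP := by
    rw [conj_sq]
    rcases hsq with e | e <;> rw [e]
    · exact Or.inl (by group)
    · exact Or.inr (conj_zP g)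
  have := h (g * b * g⁻¹) (fun x hx => ?_) hsq'
  · rcases this with e | e
    · refine Or.inl ?_
      rw [map_mul, map_mul, map_inv] at e
      exact conj_eq_one_iff.1 e
    · refine Or.inr ?_
      rw [map_mul, map_mul, ← e, ← map_mul, ← map_mul]
      congr 1
      group
  · have hx' := hb (g⁻¹ * x * g) (by
      calc g⁻¹ * x * g * (g⁻¹ * a * g) = g⁻¹ * (x * a) * g := by group
        _ = g⁻¹ * (a * x) * g := by rw [hx]
        _ = _ := by group)
    calc x * (g * b * g⁻¹) = g * ((g⁻¹ * x * g) * b) * g⁻¹ := by group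
      _ = g * (b * (g⁻¹ * x * g)) * g⁻¹ := by rw [hx']
      _ = _ := by group

theorem mid_rep {r : ℕ} (hr : r < 3) : Mid (sEl (rI r)) := by
  classical
  obtain ⟨hlt, -, -, -, hw⟩ := rep_facts hr
  intro b hb hsq
  set a := sEl (rI r) with ha
  have hT : ∀ t ∈ TS r, t * b = b * t := fun t ht => hb t (mem_TS.1 ht).2
  have h4 : b ^ 2 ^ 2 = 1 := by
    rw [show (2 : ℕ) ^ 2 = 2 + 2 by rfl, pow_add, pow_two]
    rcases hsq with e | e <;> rw [e]
    · exact one_mul 1
    · exact zP_sq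
  have hab : b * a = a * b := (hb a rfl).symm
  haveI : Fact (Nat.Prime 2) := ⟨Nat.prime_two⟩
  have hTp : IsPGroup 2 (TS r) := IsPGroup.of_card (n := 9) (by rw [card_TS hr]; norm_num)
  have hBp : IsPGroup 2 (Subgroup.zpowers b) := by
    obtain ⟨j, -, hj⟩ := (Nat.dvd_prime_pow Nat.prime_two).1 (orderOf_dvd_of_pow_eq_one h4)
    exact IsPGroup.of_card (n := j) (by rw [Nat.card_zpowers, hj])
  have hnorm : TS r ≤ Subgroup.normalizer (Subgroup.zpowers b : Set P) := by
    refine le_trans (fun u hu => ?_) (Subgroup.centralizer_le_normalizer _)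
    rw [Subgroup.mem_centralizer_iff]
    rintro _ ⟨k, rfl⟩
    exact (Commute.zpow_right (hT u hu) k).eq.symm
  have hJ := hTp.to_sup_of_normal_right' hBp hnorm
  have hbS : b ∈ S2 := by
    obtain ⟨k, hk⟩ := hJ.exists_card_eq
    have hJc : TS r ⊔ Subgroup.zpowers b ≤ Subgroup.centralizer ({a} : Set P) :=
      sup_le inf_le_right (Subgroup.zpowers_le.2 (Subgroup.mem_centralizer_singleton_iff.2 hab))
    have h9 : 512 ≤ 2 ^ k := by
      rw [← hk, ← card_TS hr]
      exact Subgroup.card_le_of_le le_sup_left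
    have h10 : 2 ^ k ∣ 2903040 := by
      rw [← hk, ← card_P]
      exact Subgroup.card_subgroup_dvd_card _
    have hk10 : k ≤ 10 := by
      by_contra hk'
      exact absurd ((Nat.pow_dvd_pow 2 (show 11 ≤ k by omega)).trans h10) (by norm_num)
    have hk9 : k = 9 := by
      by_contra hk'
      have h9' : 9 ≤ k := by
        by_contra h'
        have : 2 ^ k ≤ 2 ^ 8 := Nat.pow_le_pow_right (by norm_num) (by omega)
        omega
      refine not_sylow_cent hr (U := TS r ⊔ Subgroup.zpowers b) ?_ fun u hu =>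
        Subgroup.mem_centralizer_singleton_iff.1 (hJc hu)
      rw [hk, show k = 10 by omega]
      norm_num
    have := Subgroup.eq_of_le_of_card_ge (le_sup_left (b := Subgroup.zpowers b) (a := TS r))
      (by rw [hk, hk9, card_TS hr]; norm_num)
    have hb' : b ∈ TS r := this ▸ le_sup_right (a := TS r) (Subgroup.mem_zpowers b)
    exact (mem_TS.1 hb').1
  obtain ⟨n, hn, rfl⟩ := mem_S2 hbS
  have h := allUp_spec (List.all_eq_true.mp mid_ok r (List.mem_range.mpr hr)) n (Nat.zero_le _) (by omega)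
  obtain ⟨hm, em⟩ := sEl_mul hn hn
  have hc : Nat.beq (sMul n (rI r)) (sMul (rI r) n) = true := Nat.beq_eq.symm ▸ (sMul_eq hn hlt hlt hn).2 hab
  have hq : (Nat.beq (sMul n n) 0).or (Nat.beq (sMul n n) zI) = true := by
    rw [Bool.or_eq_true, Nat.beq_eq, Nat.beq_eq, ← sEl_eq_one hm, ← sEl_eq_z hm, ← em]
    exact hsq
  rw [midAt, strict_eq, hc, pick_true, strict_eq, hq, pick_true] at h
  simp only [Bool.or_eq_true, List.any_eq_true, Bool.not_eq_true', Nat.beq_eq] at h
  rcases h with (((h | h) | h) | h) | ⟨u, hu, h⟩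
  · exact Or.inl (by rw [h, sEl_zero, map_one])
  · exact Or.inl (by rw [h, sEl_zI, rho_zP])
  · exact Or.inr (by rw [h])
  · refine Or.inr ?_
    rw [h, ← (sEl_mul hlt zI_lt).2, map_mul, sEl_zI, rho_zP, mul_one]
  · exfalso
    have hu' := hb (pw u) (hw u hu)
    obtain ⟨hokn, hpn⟩ := sW_spec hn
    have hokU : ok u = true := by
      have hrow := List.all_eq_true.mp rep_ok.1 r (List.mem_range.mpr hr)
      simp only [Bool.and_eq_true, List.all_eq_true] at hrow
      have hs := hrow.2 u hu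
      simp only [comW, same, Bool.and_eq_true] at hs
      exact (ok_append.1 hs.1.1).2
    rw [comW, (same_iff (ok_append.2 ⟨hokn, hokU⟩) (ok_append.2 ⟨hokU, hokn⟩)).2
      (by rw [pw_append, pw_append, hpn]; exact hu'.symm)] at h
    exact Bool.noConfusion h

theorem mid_y7 : Mid y7 := by
  intro b hb hsq
  obtain ⟨n, hn, rfl⟩ := exists_yE (hb y7 rfl).symm
  have hokn := ok_yEW hn
  have h := allUp_spec midY_ok.1 n (Nat.zero_le _) (by omega)
  simp only [show ltB n 384 = true from ltB_iff.mpr hn, pick_true] at h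
  have hcond : (same (yEW n ++ yEW n) [] || same (yEW n ++ yEW n) zw) = true := by
    rw [Bool.or_eq_true]
    refine hsq.imp (fun e => ?_) (fun e => ?_)
    · exact (same_iff (ok_append.2 ⟨hokn, hokn⟩) rfl).2 (by rw [pw_append, pw_nil]; exact e)
    · exact (same_iff (ok_append.2 ⟨hokn, hokn⟩) zw_facts.1).2 (by rw [pw_append]; exact e)
  rw [midYAt, hcond, pick_true] at h
  simp only [Bool.or_eq_true, List.any_eq_true, Bool.not_eq_true'] at h
  rcases h with (((h | h) | h) | h) | ⟨u, hu, h⟩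
  · exact Or.inl (by rw [yE, same_sound h, pw_nil, map_one])
  · exact Or.inl (by rw [yE, same_sound h]; exact rho_zP)
  · exact Or.inr (by rw [yE, same_sound h]; rfl)
  · refine Or.inr ?_
    rw [yE, same_sound h, pw_append, map_mul, ← zP, rho_zP, one_mul]
    rfl
  · exfalso
    have hy := List.all_eq_true.mp midY_ok.2 u hu
    have hu' := hb (pw u) (comm_of_same hy).symm
    simp only [comW, same, Bool.and_eq_true] at hy
    have hokU := (ok_append.1 hy.1.1).2
    rw [comW, (same_iff (ok_append.2 ⟨hokn, hokU⟩) (ok_append.2 ⟨hokU, hokn⟩)).2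
      (by rw [pw_append, pw_append]; exact hu'.symm)] at h
    exact Bool.noConfusion h

theorem sEl_rep_two : sEl (rI 2) = (pw xcw)⁻¹ * cls 0 * pw xcw := by
  obtain ⟨hlt, -, -, -, -⟩ := rep_facts (r := 2) (by norm_num)
  obtain ⟨-, hok, hk⟩ := rep_ok
  refine keyP_inj ?_
  rw [(sEl_spec hlt).2, ← Nat.eq_of_beq_eq_true hk,
    ← keyP_pw (ok_append.2 ⟨ok_iw hok, ok_append.2 ⟨clsKeys_facts.2.2.2.2.1, hok⟩⟩), pw_append, pw_append,
    pw_iw, cls_zero, mul_assoc]

/-- A pure involution other than the central one is conjugate to the first. -/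
theorem pure_conj_zero {a : P} (h : Pure a) (hz : a ≠ zP) : ∃ g : P, g⁻¹ * cls 0 * g = a := by
  obtain ⟨p, hp, rfl⟩ := h.resolve_left hz
  exact ⟨_, cls_conj_zero hp⟩

theorem mid_all {a : P} (hsq : a * a = 1 ∨ a * a = zP) (h1 : rho a ≠ 1) : Mid a := by
  rcases hsq with h | h
  · have hne : a ≠ 1 := fun e => h1 (by rw [e, map_one])
    rcases invol_cases h hne with hp | ⟨g, rfl⟩
    · obtain ⟨g, rfl⟩ := pure_conj_zero hp fun e => h1 (by rw [e, rho_zP])
      have e := mid_conj (mid_rep (r := 2) (by norm_num)) ((pw xcw)⁻¹ * g)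
      rw [sEl_rep_two] at e
      convert e using 1
      group
    · exact mid_conj mid_y7 g
  · obtain ⟨r, hr, g, rfl⟩ := four_conj h
    exact mid_conj (mid_rep (by omega)) g

theorem pure_z_mul_cls_zero : Pure (zP * cls 0) := by
  have h := CfsgLib.CoThreeUniq.four_ok
  simp only [fourOK, Bool.and_eq_true] at h
  rw [cls_zero, zP, ← pw_append]
  exact (pureB_iff (ok_append.2 ⟨zw_facts.1, clsKeys_facts.2.2.2.2.1⟩)).1 h.2.1

theorem isY_y7_mul_z : IsY (y7 * zP) := by
  have hsq : y7 * zP * (y7 * zP) = 1 := by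
    rw [← zP_comm y7, mul_assoc zP y7, ← mul_assoc y7 zP, ← zP_comm y7, mul_assoc zP y7 y7, y7_sq, mul_one,
      zP_sq]
  refine (invol_cases hsq fun e => y7_not_pure (Or.inl ?_)).resolve_left fun hp => ?_
  · rw [eq_inv_of_mul_eq_one_left e, zP_inv]
  · rcases hp with e | ⟨p, hp, e⟩
    · exact y7_ne (mul_right_cancel (e.trans (one_mul zP).symm))
    · refine y7_not_pure ?_
      have hy : y7 = (pw (trw p))⁻¹ * (zP * cls 0) * pw (trw p) := by
        calc y7 = (y7 * zP) * zP := by rw [mul_assoc, zP_sq, mul_one]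
          _ = cls p * zP := by rw [e]
          _ = (pw (trw p))⁻¹ * (cls 0 * (pw (trw p) * zP)) := by rw [← cls_conj_zero hp]; group
          _ = (pw (trw p))⁻¹ * ((cls 0 * zP) * pw (trw p)) := by
            rw [← zP_comm (pw (trw p))]; group
          _ = _ := by rw [← zP_comm (cls 0)]; group
      rw [hy]
      exact pure_conj _ pure_z_mul_cls_zero

theorem isY_mul_z {a : P} (h : IsY a) : IsY (a * zP) := by
  obtain ⟨g, rfl⟩ := h
  obtain ⟨c, hc⟩ := isY_y7_mul_z
  refine ⟨c * g, ?_⟩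
  calc (c * g)⁻¹ * y7 * (c * g) = g⁻¹ * (c⁻¹ * y7 * c) * g := by group
    _ = g⁻¹ * (y7 * zP) * g := by rw [hc]
    _ = g⁻¹ * y7 * g * zP := by rw [mul_assoc _ g zP, ← zP_comm g]; group

/-- first generator of the group of order nine -/
noncomputable def f1 : P := pw f1W

/-- second generator of the group of order nine -/
noncomputable def f2 : P := pw f2W

theorem f_mem : f1 ∈ Xs ∧ f2 ∈ Xs :=
  ⟨by rw [f1, f1W, pw_gWord]; exact evG_mem gl_mem _, by rw [f2, f2W, pw_gWord]; exact evG_mem gl_mem _⟩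

theorem f_facts : f1 * f2 = f2 * f1 ∧ f1 ≠ 1 ∧ f2 ≠ 1 ∧ f2 ≠ f1 ∧ f2 ≠ f1 * f1 := by
  have h := e_ok.2.2.2.2
  have hk : ∀ {u w : List ℕ}, ok u = true → ok w = true → same u w = false → pw u ≠ pw w :=
    fun hu hw h e => by rw [(same_iff hu hw).2 e] at h; exact Bool.noConfusion h
  have o1 : ok f1W = true := ok_gWord _
  have o2 : ok f2W = true := ok_gWord _
  simp only [Bool.and_eq_true, Bool.not_eq_true'] at h
  obtain ⟨⟨⟨⟨hc, h1⟩, h2⟩, h3⟩, h4⟩ := h
  exact ⟨comm_of_same hc, pw_nil ▸ hk o1 rfl h1, pw_nil ▸ hk o2 rfl h2, hk o2 o1 h3,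
    pw_append f1W f1W ▸ hk o2 (ok_append.2 ⟨o1, o1⟩) h4⟩

/-- the four cyclic subgroups -/
noncomputable def lineE (i : ℕ) : P := pw (lineW i)

theorem lineE_vals : lineE 0 = f1 ∧ lineE 1 = f2 ∧ lineE 2 = f1 * f2 ∧ lineE 3 = f1 * (f2 * f2) := by
  refine ⟨rfl, rfl, ?_, ?_⟩
  · exact pw_append f1W f2W
  · show pw (f1W ++ (f2W ++ f2W)) = _
    rw [pw_append, pw_append]; rfl

theorem ok_lineW {i : ℕ} (hi : i < 4) : ok (lineW i) = true ∧ lineE i * (lineE i * lineE i) = 1 := by
  have h := List.all_eq_true.mp e_ok.2.2.2.1 i (List.mem_range.mpr hi)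
  simp only [lineAt, Bool.and_eq_true] at h
  have h' := h.1
  refine ⟨?_, ?_⟩
  · simp only [same, Bool.and_eq_true] at h'
    exact (ok_append.1 h'.1.1).1
  · rw [lineE, ← pw_append, ← pw_append, same_sound h', pw_nil]

theorem pw_repW (n : ℕ) (w : List ℕ) : pw (repW n w) = pw w ^ n := by
  induction n with
  | zero => rw [pow_zero]; exact pw_nil
  | succ n ih => rw [repW, List.replicate_succ, List.flatten_cons, pw_append, pow_succ', ← ih, repW]

/-- A normal subgroup of the stabiliser with one involution avoids the four lines. -/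
theorem line_not_mem {R : Subgroup P} (hR : ∀ y ∈ Xs, ∀ a ∈ R, y⁻¹ * a * y ∈ R)
    (h2 : ∀ v ∈ R, v * v = 1 → v = 1 ∨ v = cls 0) {i : ℕ} (hi : i < 4) : lineE i ∉ R := by
  intro hmem
  have h := List.all_eq_true.mp e_ok.2.2.2.1 i (List.mem_range.mpr hi)
  simp only [lineAt, Bool.and_eq_true, Bool.not_eq_true'] at h
  obtain ⟨-, ⟨hsq, h1⟩, hx⟩ := h
  set g := gWord (nthWord eWit i) with hg
  set v := repW (nth eExp i 0) (lineW i ++ (iw g ++ (lineW i ++ g))) with hv
  have hg' : pw g ∈ Xs := by rw [hg, pw_gWord]; exact evG_mem gl_mem _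
  have hm : pw v ∈ R := by
    rw [hv, pw_repW, pw_append, pw_append, pw_append, pw_iw]
    refine R.pow_mem (R.mul_mem hmem ?_) _
    rw [← mul_assoc]
    exact hR _ hg' _ hmem
  have hokv : ok v = true := by
    simp only [same, Bool.and_eq_true] at hsq
    exact (ok_append.1 hsq.1.1).1
  rcases h2 _ hm (by rw [← pw_append, same_sound hsq, pw_nil]) with e | e
  · rw [(same_iff hokv rfl).2 (by rw [e, pw_nil])] at h1
    exact Bool.noConfusion h1
  · rw [(same_iff hokv clsKeys_facts.2.2.2.2.1).2 (by rw [e, cls_zero])] at hx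
    exact Bool.noConfusion hx

/-- No element of the stabiliser centralising the group of order nine squares to its involution. -/
theorem no_root {y : P} (hy : y ∈ Xs) (h1 : y * f1 = f1 * y) (h2 : y * f2 = f2 * y) :
    y * y ≠ cls 0 ∧ y * y ≠ zP * cls 0 := by
  classical
  obtain ⟨⟨hlen, hall⟩, hnd, horb, -, -⟩ := e_ok
  let C : Subgroup P := Xs ⊓ Subgroup.centralizer ({f1, f2} : Set P)
  have hC : ∀ a, a ∈ C ↔ a ∈ Xs ∧ a * f1 = f1 * a ∧ a * f2 = f2 * a := fun a => by
    simp only [C, Subgroup.mem_inf, Subgroup.mem_centralizer_iff, Set.forall_mem_insert,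
      Set.mem_singleton_iff, forall_eq, eq_comm (a := a * f1), eq_comm (a := a * f2)]
  let x : Fin 128 → P := fun i => evG gl (nthWord eOrb i)
  let f : C × Fin 128 → Xs := fun q =>
    ⟨q.1.1 * x q.2, mul_mem ((hC _).1 q.1.2).1 (evG_mem gl_mem _)⟩
  have hf : Function.Injective f := by
    rintro ⟨a, i⟩ ⟨b, j⟩ h
    have e : a.1 * x i = b.1 * x j := congrArg Subtype.val h
    have key1 : ∀ (a : C) (i : Fin 128) (w : List ℕ), ok w = true → a.1 * pw w = pw w * a.1 →
        keyP ((a.1 * x i)⁻¹ * pw w * (a.1 * x i)) =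
          key (iw (gWord (nthWord eOrb i)) ++ (w ++ gWord (nthWord eOrb i))) := by
      intro a i w hw hc
      rw [← keyP_pw (ok_append.2 ⟨ok_iw (ok_gWord _), ok_append.2 ⟨hw, ok_gWord _⟩⟩), pw_append, pw_append,
        pw_iw, pw_gWord]
      refine congrArg keyP ?_
      calc (a.1 * x i)⁻¹ * pw w * (a.1 * x i) = (x i)⁻¹ * (a.1⁻¹ * (pw w * a.1)) * x i := by group
        _ = _ := by rw [← hc, inv_mul_cancel_left, mul_assoc]
    have hij : i = j := by
      refine Fin.ext (List.inj_on_of_nodup_map (newFrom_spec horb).1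
        (List.mem_range.2 i.2) (List.mem_range.2 j.2) ?_)
      simp only [orbK, strict_eq]
      rw [← key1 a i f1W (ok_gWord _) ((hC _).1 a.2).2.1, ← key1 a i f2W (ok_gWord _) ((hC _).1 a.2).2.2,
        ← key1 b j f1W (ok_gWord _) ((hC _).1 b.2).2.1, ← key1 b j f2W (ok_gWord _) ((hC _).1 b.2).2.2, e]
    subst hij
    exact Prod.ext (Subtype.ext (mul_right_cancel e)) rfl
  have hcard : Nat.card C ≤ 36 := by
    have h := Nat.card_le_card_of_injective f hf
    rw [Nat.card_prod, Nat.card_fin, card_Xs] at h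
    omega
  have hE : ∀ i < 36, ok (gWord (nthWord eCent i)) = true ∧ pw (gWord (nthWord eCent i)) ∈ C ∧
      ¬(pw (gWord (nthWord eCent i)) * pw (gWord (nthWord eCent i)) = cls 0) ∧
      ¬(pw (gWord (nthWord eCent i)) * pw (gWord (nthWord eCent i)) = zP * cls 0) := by
    intro i hi
    have h := List.all_eq_true.mp hall i (List.mem_range.mpr hi)
    simp only [eCentAt, strict_eq, Bool.and_eq_true, Bool.not_eq_true'] at h
    obtain ⟨⟨⟨hc1, hc2⟩, hs1⟩, hs2⟩ := h
    refine ⟨ok_gWord _, (hC _).2 ⟨?_, comm_of_same hc1, comm_of_same hc2⟩, fun e => ?_, fun e => ?_⟩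
    · rw [pw_gWord]; exact evG_mem gl_mem _
    · rw [(same_iff (ok_append.2 ⟨ok_gWord _, ok_gWord _⟩) clsKeys_facts.2.2.2.2.1).2
        (by rw [pw_append, e, cls_zero])] at hs1
      exact Bool.noConfusion hs1
    · rw [(same_iff (ok_append.2 ⟨ok_gWord _, ok_gWord _⟩)
        (ok_append.2 ⟨zw_facts.1, clsKeys_facts.2.2.2.2.1⟩)).2
        (by rw [pw_append, e, pw_append, cls_zero]; rfl)] at hs2
      exact Bool.noConfusion hs2
  let g : Fin 36 → C := fun i => ⟨_, (hE i i.2).2.1⟩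
  have hg : Function.Injective g := fun i j h => by
    refine Fin.ext (List.inj_on_of_nodup_map (newFrom_spec hnd).1
      (List.mem_range.2 i.2) (List.mem_range.2 j.2) ?_)
    rw [key_of_eq (hE i i.2).1 (hE j j.2).1 (congrArg Subtype.val h)]
  obtain ⟨i, hi⟩ := (hg.bijective_of_nat_card_le (hcard.trans (Nat.card_fin 36).ge)).2 ⟨y, (hC y).2 ⟨hy, h1, h2⟩⟩
  rw [show y = pw (gWord (nthWord eCent i)) from (congrArg Subtype.val hi).symm]
  exact (hE i i.2).2.2

end CfsgLib.CoThreeStd
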