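import Cfsg.Agent.Lib.CoThreeStd.Core
import Cfsg.Agent.Lib.CoThreeUniq.Final
import Cfsg.Agent.Lib.MinIndexSp.ExistTwo

/-!
A simple group with a standard double cover of Sp(6, 2) is the third Conway group.
-/

set_option autoImplicit false
set_option linter.style.haveILetI false

open scoped commutatorElement

namespace CfsgLib.CoThreeStd

open CfsgLib.CoThreeUniq

universe u

/-- A perfect group with centre of order two over the symplectic group is a non-split double cover. -/
theorem nonsplit_of_perfect {H : Type*} [Group H] [Finite H] (hH : commutator H = ⊤)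
    (h2 : Nat.card (Subgroup.center H) = 2) (hq : Nonempty (H ⧸ Subgroup.center H ≃* Sp62)) :
    Cfsg.IsNonsplitDoubleCover H Sp62 := by
  refine ⟨h2, hq, fun L hL => ?_⟩
  have hle : commutator H ≤ L := by
    rw [commutator_def, Subgroup.commutator_le]
    intro a _ b _
    obtain ⟨⟨⟨x, hx⟩, ⟨p, hp⟩⟩, rfl⟩ := hL.2 a
    obtain ⟨⟨⟨y, hy⟩, ⟨q, hq⟩⟩, rfl⟩ := hL.2 b
    show ⁅x * p, y * q⁆ ∈ L
    have e : ⁅x * p, y * q⁆ = ⁅p, q⁆ := by
      have cx := fun g => Subgroup.mem_center_iff.1 hx g
      have cy := fun g => Subgroup.mem_center_iff.1 hy g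
      rw [commutatorElement_def, commutatorElement_def, mul_inv_rev, mul_inv_rev]
      calc x * p * (y * q) * (p⁻¹ * x⁻¹) * (q⁻¹ * y⁻¹)
          = x * ((p * y) * q * p⁻¹) * x⁻¹ * q⁻¹ * y⁻¹ := by group
        _ = x * (y * (p * q * p⁻¹)) * x⁻¹ * q⁻¹ * y⁻¹ := by rw [cy p]; group
        _ = ((y * (p * q * p⁻¹)) * x) * x⁻¹ * q⁻¹ * y⁻¹ := by rw [cx]
        _ = y * (p * q * p⁻¹ * q⁻¹) * y⁻¹ := by group
        _ = (p * q * p⁻¹ * q⁻¹) * y * y⁻¹ := by rw [cy]
        _ = _ := by group
    rw [e, commutatorElement_def]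
    exact L.mul_mem (L.mul_mem (L.mul_mem hp hq) (L.inv_mem hp)) (L.inv_mem hq)
  have htop : L = ⊤ := top_le_iff.1 (hH ▸ hle)
  have := hL.card_mul
  rw [h2, htop, Subgroup.card_top] at this
  have := Nat.card_pos (α := H)
  omega

theorem card_center_P : Nat.card (Subgroup.center P) = 2 := by
  have h := Subgroup.card_eq_card_quotient_mul_card_subgroup (Subgroup.center P)
  rw [card_P, Nat.card_congr ((QuotientGroup.quotientMulEquivOfEq center_P).trans
    (QuotientGroup.quotientKerEquivOfSurjective rho rho_surjective)).toEquiv, card_sp] at h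
  omega

theorem quot_P : Nonempty (P ⧸ Subgroup.center P ≃* Sp62) :=
  ⟨(QuotientGroup.quotientMulEquivOfEq center_P).trans
    (QuotientGroup.quotientKerEquivOfSurjective rho rho_surjective)⟩

/-- Change of field. -/
def mapField {F K : Type*} [Field F] [Field K] (φ : F ≃+* K) :
    Matrix.symplecticGroup (Fin 3) F ≃* Matrix.symplecticGroup (Fin 3) K where
  toFun A := ⟨A.1.map φ, by
    rw [SymplecticGroup.mem_iff]
    have hJ : (Matrix.J (Fin 3) F).map φ = Matrix.J (Fin 3) K := by
      ext i j
      rcases i with i | i <;> rcases j with j | j <;>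
        simp [Matrix.J, Matrix.fromBlocks, Matrix.one_apply, apply_ite φ]
    rw [← hJ, ← Matrix.transpose_map, ← Matrix.map_mul, ← Matrix.map_mul,
      SymplecticGroup.mem_iff.1 A.2]⟩
  invFun A := ⟨A.1.map φ.symm, by
    rw [SymplecticGroup.mem_iff]
    have hJ : (Matrix.J (Fin 3) K).map φ.symm = Matrix.J (Fin 3) F := by
      ext i j
      rcases i with i | i <;> rcases j with j | j <;>
        simp [Matrix.J, Matrix.fromBlocks, Matrix.one_apply, apply_ite φ.symm]
    rw [← hJ, ← Matrix.transpose_map, ← Matrix.map_mul, ← Matrix.map_mul,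
      SymplecticGroup.mem_iff.1 A.2]⟩
  left_inv A := Subtype.ext (Matrix.ext fun i j => φ.symm_apply_apply _)
  right_inv A := Subtype.ext (Matrix.ext fun i j => φ.apply_symm_apply _)
  map_mul' A B := Subtype.ext (Matrix.map_mul)

namespace Ctx

variable {G : Type u} [Group G] (c : Ctx G) [Finite G] [IsSimpleGroup G]

/-- The centraliser of the involution is the copy. -/
theorem N_eq (hbal : Cfsg.centralizerPPrimeCore 2 c.z = ⊥) : c.N = c.ι.range := by
  refine le_antisymm (fun n hn => ?_) fun n ⟨p, hp⟩ => hp ▸ c.iota_mem_N p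
  obtain ⟨p, hp⟩ := c.exists_decomp hn
  rcases c.K_eq hbal hp with e | e
  · exact ⟨p, inv_mul_eq_one.1 e⟩
  · exact ⟨p * zP, by rw [map_mul, ← z, ← e, mul_inv_cancel_left]⟩

theorem iso (hbal : Cfsg.centralizerPPrimeCore 2 c.z = ⊥) : Cfsg.Spor.IsoCo3 G := by
  have hnc : Subgroup.center G ≠ ⊤ := fun h => c.z_ne (by
    have hle : commutator P ≤ c.ι.ker := by
      rw [commutator_def, Subgroup.commutator_le]
      intro p _ q _
      rw [MonoidHom.mem_ker, map_commutatorElement, commutatorElement_eq_one_iff_mul_comm]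
      exact Subgroup.mem_center_iff.mp (h ▸ Subgroup.mem_top (c.ι q)) (c.ι p)
    exact MonoidHom.mem_ker.mp (hle (P_perfect ▸ Subgroup.mem_top zP)))
  have hZ : Subgroup.center G = ⊥ := (Subgroup.Normal.eq_bot_or_eq_top inferInstance).resolve_right hnc
  have hO : Cfsg.oddCore G = ⊥ :=
    (Subgroup.Normal.eq_bot_or_eq_top (Transfer.pPrimeCore_normal 2 G)).resolve_right fun h => by
      have hodd : Odd (Nat.card (Cfsg.pPrimeCore 2 G)) := ZStar.odd_card_core
      rw [h, Subgroup.card_top] at hodd
      exact (Nat.not_even_iff_odd.mpr hodd) (even_iff_two_dvd.mpr (c.orderOf_z ▸ orderOf_dvd_natCard c.z))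
  let e : P ≃* c.N := (MonoidHom.ofInjective c.inj).trans (MulEquiv.subgroupCongr (c.N_eq hbal).symm)
  refine iso_co3 hO hZ c.z c.orderOf_z ?_
  change Cfsg.IsNonsplitDoubleCover c.N Sp62
  refine nonsplit_of_perfect ?_ ?_ ?_
  · rw [commutator_def, ← Subgroup.map_top_of_surjective e.toMonoidHom e.surjective, ← Subgroup.map_commutator,
      ← commutator_def, P_perfect]
  · rw [← Nat.card_congr (Subgroup.centerCongr e).toEquiv, card_center_P]
  · obtain ⟨q⟩ := quot_P
    refine ⟨(QuotientGroup.congr (Subgroup.center P) (Subgroup.center c.N) e ?_).symm.trans q⟩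
    ext x
    rw [Subgroup.mem_map]
    constructor
    · rintro ⟨p, hp, rfl⟩
      rw [Subgroup.mem_center_iff] at hp ⊢
      intro y
      obtain ⟨q, rfl⟩ := e.surjective y
      exact (map_mul e q p).symm.trans ((congrArg e (hp q)).trans (map_mul e p q))
    · intro hx
      refine ⟨e.symm x, ?_, e.apply_symm_apply x⟩
      rw [Subgroup.mem_center_iff] at hx ⊢
      intro q
      refine e.injective ?_
      rw [map_mul, map_mul, e.apply_symm_apply, hx]

end Ctx

/-- A simple group with a standard double cover of `PSp(6, 2)` is the third Conway group. -/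
theorem iso_of_standard {G : Type*} [Group G] [Finite G] [IsSimpleGroup G]
    (hbal : ∀ t : G, orderOf t = 2 → Cfsg.centralizerPPrimeCore 2 t = ⊥) (L : Subgroup G)
    (hL : Cfsg.IsStandardSubgroup L) {F : Type*} [Field F] [Fintype F] (hF : Fintype.card F = 2)
    (h2 : Nat.card (Subgroup.center L) = 2) (hq : Nonempty (L ⧸ Subgroup.center L ≃* Cfsg.PSp 3 F)) :
    Cfsg.Spor.IsoCo3 G := by
  classical
  obtain ⟨i⟩ := hq
  let eF : Cfsg.PSp 3 F ≃* Sp62 :=
    ((QuotientGroup.quotientMulEquivOfEq (CfsgLib.MinIndexSp.Two.center_eq_bot hF)).trans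
      QuotientGroup.quotientBot).trans (mapField (FiniteField.ringEquivOfCardEq (hF.trans (ZMod.card 2).symm)))
  obtain ⟨e, -⟩ := exists_iso (nonsplit_of_perfect hL.1.1.commutator_eq_top h2 ⟨i.trans eF⟩)
  let c : Ctx G :=
    { ι := L.subtype.comp e.toMonoidHom
      inj := L.subtype_injective.comp e.injective
      std := by
        rw [show (L.subtype.comp e.toMonoidHom).range = L from by
          rw [MonoidHom.range_eq_map, ← Subgroup.map_map, Subgroup.map_top_of_surjective _ e.surjective,
            ← MonoidHom.range_eq_map, Subgroup.range_subtype]]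
        exact hL }
  exact c.iso (hbal c.z c.orderOf_z)

end CfsgLib.CoThreeStd
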