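import Cfsg.Agent.Lib.CoThreeStd.Base
import Cfsg.Agent.Lib.ZStar.Main
import Cfsg.Agent.Lib.Transfer.Basic

/-!
The conjugates of the central involution in its centraliser lie in the copy of the cover.
-/

set_option autoImplicit false
set_option linter.style.haveILetI false

open scoped commutatorElement

namespace CfsgLib.CoThreeStd

open CfsgLib.CoThreeUniq

universe u

theorem rho_sq {a : P} (h : rho a * rho a = 1) : a * a = 1 ∨ a * a = zP :=
  (rho_ker _).1 (by rw [map_mul, h])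

namespace Ctx

variable {G : Type u} [Group G] (c : Ctx G) [Finite G]

theorem conj_z_sq (h : G) : h * c.z * h⁻¹ * (h * c.z * h⁻¹) = 1 := by
  calc h * c.z * h⁻¹ * (h * c.z * h⁻¹) = h * (c.z * c.z) * h⁻¹ := by group
    _ = 1 := by rw [c.z_sq, mul_one, mul_inv_cancel]

theorem eq_z_of_mem {h : G} (hh : h ∈ c.N) : h * c.z * h⁻¹ = c.z := by
  rw [c.mem_N.mp hh, mul_inv_cancel_right]

theorem not_mem_of_conj {h : G} (h1 : h * c.z * h⁻¹ ≠ c.z) : h ∉ c.N := fun hh => h1 (c.eq_z_of_mem hh)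

theorem conj_inv_props {h : G} (hN : h * c.z * h⁻¹ ∈ c.N) (h1 : h * c.z * h⁻¹ ≠ c.z) :
    h⁻¹ * c.z * h⁻¹⁻¹ ∈ c.N ∧ h⁻¹ * c.z * h⁻¹⁻¹ ≠ c.z := by
  refine ⟨c.mem_N.mpr ?_, fun e => h1 ?_⟩
  · calc h⁻¹ * c.z * h⁻¹⁻¹ * c.z = h⁻¹ * (c.z * (h * c.z * h⁻¹)) * h := by group
      _ = h⁻¹ * ((h * c.z * h⁻¹) * c.z) * h := by rw [c.mem_N.mp hN]
      _ = _ := by group
  · calc h * c.z * h⁻¹ = h * (h⁻¹ * c.z * h⁻¹⁻¹) * h⁻¹ := by rw [e]
      _ = c.z := by group

theorem sig_conj_z {h : G} (hN : h * c.z * h⁻¹ ∈ c.N) (h1 : h * c.z * h⁻¹ ≠ c.z) :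
    c.sig (h * c.z * h⁻¹) * c.sig (h * c.z * h⁻¹) = 1 ∧ c.sig (h * c.z * h⁻¹) ≠ 1 := by
  refine ⟨by rw [← c.sig_mul hN hN, c.conj_z_sq, c.sig_one], fun e => c.not_mem_of_conj h1 ?_⟩
  exact c.mem_N_of_conj c.z_mem_K c.orderOf_z ((c.sig_eq_one_iff hN).mp e)

/-- The central involution is fused in its centraliser. -/
theorem exists_fused [IsSimpleGroup G] : ∃ h : G, h * c.z * h⁻¹ ∈ c.N ∧ h * c.z * h⁻¹ ≠ c.z := by
  by_contra hcon
  push Not at hcon
  have hiso : Cfsg.IsIsolatedInvolution c.z :=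
    ⟨c.orderOf_z, fun h hh => hcon h (c.mem_N.mpr hh.eq.symm)⟩
  have hco := ZStar.commutatorsInCore_of_isolated hiso
  rcases Subgroup.Normal.eq_bot_or_eq_top (Transfer.pPrimeCore_normal 2 G) with h | h
  · have hcen : ∀ w, w * c.z = c.z * w := fun w => by
      have h1 := hco w
      rw [h, Subgroup.mem_bot, mul_inv_eq_one, mul_inv_eq_iff_eq_mul] at h1
      exact h1.symm
    have hzc : c.z ∈ Subgroup.center G := Subgroup.mem_center_iff.mpr hcen
    have htop : Subgroup.center G = ⊤ :=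
      (Subgroup.Normal.eq_bot_or_eq_top inferInstance).resolve_left fun hb => by
        rw [hb, Subgroup.mem_bot] at hzc
        exact c.z_ne hzc
    have hle : commutator P ≤ c.ι.ker := by
      rw [commutator_def, Subgroup.commutator_le]
      intro p _ q _
      rw [MonoidHom.mem_ker, map_commutatorElement, commutatorElement_eq_one_iff_mul_comm]
      exact Subgroup.mem_center_iff.mp (htop ▸ Subgroup.mem_top (c.ι q)) (c.ι p)
    exact c.z_ne (MonoidHom.mem_ker.mp (hle (P_perfect ▸ Subgroup.mem_top zP)))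
  · have hodd : Odd (Nat.card (Cfsg.pPrimeCore 2 G)) := ZStar.odd_card_core
    rw [h, Subgroup.card_top] at hodd
    exact (Nat.not_even_iff_odd.mpr hodd) (even_iff_two_dvd.mpr (c.orderOf_z ▸ orderOf_dvd_natCard c.z))

/-- An involution of `K` commuting with a conjugate of `z` is `z`. -/
theorem invol_K_eq {h u : G} (hN : h * c.z * h⁻¹ ∈ c.N) (h1 : h * c.z * h⁻¹ ≠ c.z) (hu : u ∈ c.K)
    (hu2 : orderOf u = 2) (hcu : u * (h * c.z * h⁻¹) = h * c.z * h⁻¹ * u) : u = c.z := by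
  by_contra hne
  have hnotN := c.not_mem_of_conj h1
  obtain ⟨hN', h1'⟩ := c.conj_inv_props hN h1
  set z' := h⁻¹ * c.z * h⁻¹⁻¹ with hz'
  set u' := h⁻¹ * u * h with hu'
  have hu'N : u' ∈ c.N := c.mem_N.mpr (by
    calc h⁻¹ * u * h * c.z = h⁻¹ * (u * (h * c.z * h⁻¹)) * h := by group
      _ = h⁻¹ * (h * c.z * h⁻¹ * u) * h := by rw [hcu]
      _ = c.z * (h⁻¹ * u * h) := by group)
  have huu : u * u = 1 := by rw [← pow_two, ← hu2, pow_orderOf_eq_one]
  have huz : u * c.z = c.z * u := c.mem_N.mp (c.K_le_N hu)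
  have hμ2 : c.sig u' * c.sig u' = 1 := by
    rw [← c.sig_mul hu'N hu'N, show u' * u' = h⁻¹ * (u * u) * h by rw [hu']; group, huu, mul_one,
      inv_mul_cancel, c.sig_one]
  have hμ1 : c.sig u' ≠ 1 := fun e => by
    have := c.mem_N_of_conj hu hu2 (h := h⁻¹) (by rw [inv_inv]; exact (c.sig_eq_one_iff hu'N).mp e)
    exact hnotN (inv_inv h ▸ c.N.inv_mem this)
  obtain ⟨hz2, hz1⟩ := c.sig_conj_z hN' h1'
  rw [← hz'] at hz2 hz1
  have hμz : c.sig u' ≠ c.sig z' := fun e => by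
    have hm : u' * z' ∈ c.N := c.N.mul_mem hu'N hN'
    have hK : u' * z' ∈ c.K := (c.sig_eq_one_iff hm).mp (by rw [c.sig_mul hu'N hN', e, hz2])
    have hord : orderOf (u * c.z) = 2 := orderOf_eq_prime (by
      rw [pow_two]
      calc u * c.z * (u * c.z) = u * (c.z * u) * c.z := by group
        _ = u * (u * c.z) * c.z := by rw [huz]
        _ = (u * u) * (c.z * c.z) := by group
        _ = 1 := by rw [huu, c.z_sq, one_mul]) fun e' => hne (by
      calc u = u * c.z * c.z⁻¹ := by group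
        _ = c.z := by rw [e', one_mul, inv_eq_of_mul_eq_one_left c.z_sq])
    have := c.mem_N_of_conj (c.K.mul_mem hu c.z_mem_K) hord (h := h⁻¹) (by
      rw [show h⁻¹ * (u * c.z) * h⁻¹⁻¹ = u' * z' by rw [hu', hz']; group]; exact hK)
    exact hnotN (inv_inv h ▸ c.N.inv_mem this)
  obtain ⟨a, ha⟩ := c.exists_decomp hu'N
  obtain ⟨b, hb⟩ := c.exists_decomp hN'
  rw [c.sig_eq ha] at hμ2 hμ1 hμz
  rw [c.sig_eq hb] at hz2 hz1 hμz
  have hab : ∀ x : P, x * a = a * x → x * b = b * x := fun x hx => by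
    have hxu : c.ι x * u' = u' * c.ι x := by
      calc c.ι x * u' = c.ι (x * a) * ((c.ι a)⁻¹ * u') := by rw [map_mul]; group
        _ = c.ι a * (c.ι x * ((c.ι a)⁻¹ * u')) := by rw [hx, map_mul, mul_assoc]
        _ = u' * c.ι x := by rw [c.mem_K.1 ha x]; group
    have hmem : h * c.ι x * h⁻¹ ∈ c.N := c.centralizer_le hu hu2 (by
      calc h * c.ι x * h⁻¹ * u = h * (c.ι x * u') * h⁻¹ := by rw [hu']; group
        _ = h * (u' * c.ι x) * h⁻¹ := by rw [hxu]
        _ = _ := by rw [hu']; group)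
    have hxz : c.ι x * z' = z' * c.ι x := by
      rw [hz']
      calc c.ι x * (h⁻¹ * c.z * h⁻¹⁻¹) = h⁻¹ * ((h * c.ι x * h⁻¹) * c.z) * h := by group
        _ = h⁻¹ * (c.z * (h * c.ι x * h⁻¹)) * h := by rw [c.mem_N.mp hmem]
        _ = _ := by group
    refine c.inj (mul_right_cancel (b := (c.ι b)⁻¹ * z') ?_)
    rw [map_mul, map_mul]
    calc c.ι x * c.ι b * ((c.ι b)⁻¹ * z') = c.ι x * z' := by group
      _ = z' * c.ι x := hxz
      _ = c.ι b * ((c.ι b)⁻¹ * z' * c.ι x) := by group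
      _ = c.ι b * (c.ι x * ((c.ι b)⁻¹ * z')) := by rw [← c.mem_K.1 hb x]
      _ = _ := by group
  rcases mid_all (rho_sq hμ2) hμ1 b hab (rho_sq hz2) with e | e
  · exact hz1 e
  · exact hμz e.symm

/-- the elements of `h⁻¹ ι(y) h` for `y` commuting with the conjugate -/
theorem conj_mem_N {h : G} {y : P} (hy : c.ι y * (h * c.z * h⁻¹) = h * c.z * h⁻¹ * c.ι y) :
    h⁻¹ * c.ι y * h ∈ c.N := c.mem_N.mpr (by
  calc h⁻¹ * c.ι y * h * c.z = h⁻¹ * (c.ι y * (h * c.z * h⁻¹)) * h := by group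
    _ = h⁻¹ * (h * c.z * h⁻¹ * c.ι y) * h := by rw [hy]
    _ = _ := by group)

/-- the action of the part of the copy commuting with the conjugate -/
noncomputable def mu (h : G) (S : Subgroup P)
    (hS : ∀ y ∈ S, c.ι y * (h * c.z * h⁻¹) = h * c.z * h⁻¹ * c.ι y) : S →* Sp62 :=
  MonoidHom.mk' (fun y => c.sig (h⁻¹ * c.ι y * h)) fun a b => by
    rw [← c.sig_mul (c.conj_mem_N (hS a a.2)) (c.conj_mem_N (hS b b.2))]
    congr 1
    rw [Subgroup.coe_mul, map_mul]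
    group

theorem mu_apply (h : G) (S : Subgroup P)
    (hS : ∀ y ∈ S, c.ι y * (h * c.z * h⁻¹) = h * c.z * h⁻¹ * c.ι y) (y : S) :
    c.mu h S hS y = c.sig (h⁻¹ * c.ι y * h) := rfl

/-- An involution killed by the action is the conjugate of `z`. -/
theorem ker_invol {h : G} (hN : h * c.z * h⁻¹ ∈ c.N) (h1 : h * c.z * h⁻¹ ≠ c.z) {y : P}
    (hy : c.ι y * (h * c.z * h⁻¹) = h * c.z * h⁻¹ * c.ι y) (h2 : y * y = 1) (hne : y ≠ 1)
    (hk : c.sig (h⁻¹ * c.ι y * h) = 1) : c.ι y = h * c.z * h⁻¹ := by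
  obtain ⟨hN', h1'⟩ := c.conj_inv_props hN h1
  have hv : h⁻¹ * c.ι y * h ∈ c.K := (c.sig_eq_one_iff (c.conj_mem_N hy)).1 hk
  have hv2 : orderOf (h⁻¹ * c.ι y * h) = 2 := orderOf_eq_prime (by
      rw [pow_two, show h⁻¹ * c.ι y * h * (h⁻¹ * c.ι y * h) = h⁻¹ * (c.ι y * c.ι y) * h by group, ← map_mul, h2,
        map_one]
      group) fun e => hne (c.inj (by
      rw [map_one, show c.ι y = h * (h⁻¹ * c.ι y * h) * h⁻¹ by group, e]; group))
  have := c.invol_K_eq hN' h1' hv hv2 (by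
    have hyz : c.ι y * c.z = c.z * c.ι y := by rw [z, ← map_mul, ← map_mul, zP_comm]
    calc h⁻¹ * c.ι y * h * (h⁻¹ * c.z * h⁻¹⁻¹) = h⁻¹ * (c.ι y * c.z) * h := by group
      _ = h⁻¹ * (c.z * c.ι y) * h := by rw [hyz]
      _ = _ := by group)
  rw [← this]
  group

/-- A conjugate of `z` in its centraliser is no involution times an element of order four. -/
theorem not_four {h : G} (hN : h * c.z * h⁻¹ ∈ c.N) (h1 : h * c.z * h⁻¹ ≠ c.z) {l : P}
    (hl : (c.ι l)⁻¹ * (h * c.z * h⁻¹) ∈ c.K) (hl4 : l * l = zP) : False := by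
  classical
  haveI : Fact (Nat.Prime 2) := ⟨Nat.prime_two⟩
  set w := h * c.z * h⁻¹ with hw
  obtain ⟨r, hr, g, hg⟩ := four_conj hl4
  set S := (TS r).map (MulAut.conj g⁻¹).toMonoidHom with hSdef
  have hS : ∀ y ∈ S, c.ι y * w = w * c.ι y := by
    rintro _ ⟨t, ht, rfl⟩
    have htl : (g⁻¹ * t * g) * l = l * (g⁻¹ * t * g) := by
      rw [← hg]
      calc g⁻¹ * t * g * (g⁻¹ * sEl (rI r) * g) = g⁻¹ * (t * sEl (rI r)) * g := by group
        _ = g⁻¹ * (sEl (rI r) * t) * g := by rw [(mem_TS.1 ht).2]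
        _ = _ := by group
    rw [MulEquiv.coe_toMonoidHom, MulAut.conj_apply, inv_inv]
    calc c.ι (g⁻¹ * t * g) * w = c.ι ((g⁻¹ * t * g) * l) * ((c.ι l)⁻¹ * w) := by rw [map_mul _ _ l]; group
      _ = c.ι l * (c.ι (g⁻¹ * t * g) * ((c.ι l)⁻¹ * w)) := by rw [htl, map_mul, mul_assoc]
      _ = w * c.ι (g⁻¹ * t * g) := by rw [c.mem_K.1 hl]; group
  have hlS : l ∈ S := ⟨_, rep_mem_TS (by omega), by rw [MulEquiv.coe_toMonoidHom, MulAut.conj_apply, inv_inv, hg]⟩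
  have hcardS : Nat.card S = 512 := by
    rw [hSdef, ← Nat.card_congr ((TS r).equivMapOfInjective _ (MulAut.conj g⁻¹).injective).toEquiv,
      card_TS (by omega)]
  have hcen : ∀ y ∈ S, y * l = l * y := by
    rintro _ ⟨t, ht, rfl⟩
    rw [MulEquiv.coe_toMonoidHom, MulAut.conj_apply, inv_inv, ← hg]
    calc g⁻¹ * t * g * (g⁻¹ * sEl (rI r) * g) = g⁻¹ * (t * sEl (rI r)) * g := by group
      _ = g⁻¹ * (sEl (rI r) * t) * g := by rw [(mem_TS.1 ht).2]
      _ = _ := by group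
  set μ := c.mu h S hS with hμdef
  have hinj : Function.Injective μ := by
    rw [← MonoidHom.ker_eq_bot_iff]
    by_contra hb
    have hp : IsPGroup 2 μ.ker :=
      (IsPGroup.of_card (p := 2) (G := S) (n := 9) (by rw [hcardS]; norm_num)).to_subgroup μ.ker
    obtain ⟨k, hk⟩ := hp.exists_card_eq
    have h2 : 2 ∣ Nat.card μ.ker := by
      rw [hk]
      refine dvd_pow_self 2 fun e => hb ?_
      rw [e, pow_zero] at hk
      exact Subgroup.card_eq_one.1 hk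
    obtain ⟨y, hy⟩ := exists_prime_orderOf_dvd_card' 2 h2
    have hyy : (y.1.1 : P) * y.1.1 = 1 := by
      have e := pow_orderOf_eq_one y
      rw [hy, pow_two] at e
      exact congrArg (fun a : μ.ker => (a.1.1 : P)) e
    have hy1 : (y.1.1 : P) ≠ 1 := fun e => by
      have : y = 1 := Subtype.ext (Subtype.ext e)
      rw [this, orderOf_one] at hy
      norm_num at hy
    have e := c.ker_invol hN h1 (hS _ y.1.2) hyy hy1 y.2
    rw [← hw] at e
    have hk1 : (c.ι l)⁻¹ * w = c.ι (l⁻¹ * y.1.1) := by rw [map_mul, map_inv, e]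
    rw [hk1, c.iota_mem_K] at hl
    have hkk : (l⁻¹ * y.1.1) * (l⁻¹ * y.1.1) = 1 := by
      rcases (rho_ker _).1 hl with e | e <;> rw [e]
      · exact one_mul 1
      · exact zP_sq
    have hcy := hcen _ y.1.2
    refine zP_ne ?_
    rw [← hl4]
    have e' : l⁻¹ * y.1.1 * (l⁻¹ * y.1.1) = l⁻¹ * l⁻¹ * (y.1.1 * y.1.1) := by
      calc l⁻¹ * y.1.1 * (l⁻¹ * y.1.1) = l⁻¹ * (l⁻¹ * (l * y.1.1)) * (l⁻¹ * y.1.1) := by group
        _ = l⁻¹ * (l⁻¹ * (y.1.1 * l)) * (l⁻¹ * y.1.1) := by rw [hcy]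
        _ = _ := by group
    rw [e', hyy, mul_one, ← mul_inv_rev, inv_eq_one] at hkk
    exact hkk
  have hμl : μ ⟨l, hlS⟩ * μ ⟨l, hlS⟩ ≠ 1 := by
    rw [← map_mul, hμdef, mu_apply]
    obtain ⟨hN', h1'⟩ := c.conj_inv_props hN h1
    have e : h⁻¹ * c.ι ((⟨l, hlS⟩ : S) * ⟨l, hlS⟩ : S).1 * h = h⁻¹ * c.z * h⁻¹⁻¹ := by
      rw [Subgroup.coe_mul, hl4, inv_inv]; rfl
    rw [e]
    exact (c.sig_conj_z hN' h1').2
  set V := μ.range with hV
  have hcV : Nat.card V = 512 := by rw [hV, ← Nat.card_congr (MonoidHom.ofInjective hinj).toEquiv, hcardS]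
  set W := V.comap rho with hW
  have hcW : Nat.card W = 1024 := by
    have h1 : W.index = V.index := by rw [hW, Subgroup.index_comap_of_surjective _ rho_surjective]
    have h2 := W.card_mul_index
    have h3 := V.card_mul_index
    rw [h1, card_P] at h2
    rw [hcV, card_sp] at h3
    have : V.index = 2835 := by omega
    rw [this] at h2
    omega
  obtain ⟨g2, hg2⟩ := conj_sylow hcW
  obtain ⟨M, hM⟩ := rho_surjective (μ ⟨l, hlS⟩)
  have hMW : M ∈ W := by rw [hW, Subgroup.mem_comap, hM]; exact ⟨_, rfl⟩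
  have hcm := central_mod (a := g2 * M * g2⁻¹) ((hg2 M).1 hMW) fun y hy => by
    have hy' : g2⁻¹ * y * g2 ∈ W := (hg2 _).2 (by rwa [show g2 * (g2⁻¹ * y * g2) * g2⁻¹ = y by group])
    obtain ⟨t, ht⟩ := (hy' : rho (g2⁻¹ * y * g2) ∈ μ.range)
    have hr : rho ((g2⁻¹ * y * g2) * M * (M * (g2⁻¹ * y * g2))⁻¹) = 1 := by
      rw [map_mul, map_inv, map_mul _ M, map_mul _ _ M, ← ht, hM, ← map_mul, ← map_mul,
        show t * ⟨l, hlS⟩ = ⟨l, hlS⟩ * t from Subtype.ext (hcen _ t.2), mul_inv_cancel]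
    rcases (rho_ker _).1 hr with e | e
    · refine Or.inl ?_
      rw [mul_inv_eq_one] at e
      calc y * (g2 * M * g2⁻¹) = g2 * ((g2⁻¹ * y * g2) * M) * g2⁻¹ := by group
        _ = g2 * (M * (g2⁻¹ * y * g2)) * g2⁻¹ := by rw [e]
        _ = _ := by group
    · refine Or.inr ?_
      rw [mul_inv_eq_iff_eq_mul] at e
      calc y * (g2 * M * g2⁻¹) = g2 * ((g2⁻¹ * y * g2) * M) * g2⁻¹ := by group
        _ = g2 * zP * g2⁻¹ * (g2 * (M * (g2⁻¹ * y * g2)) * g2⁻¹) := by rw [e]; group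
        _ = _ := by rw [conj_zP]; group
  refine hμl ?_
  rw [← hM, ← map_mul, rho_ker]
  rw [conj_sq] at hcm
  refine hcm.imp (fun e => conj_eq_one_iff.1 e) fun e => ?_
  calc M * M = g2⁻¹ * (g2 * (M * M) * g2⁻¹) * g2 := by group
    _ = zP := by rw [e, mul_assoc, zP_comm, inv_mul_cancel_left]

/-- The conjugates of `z` in its centraliser lie in the copy. -/
theorem conj_mem {h : G} (hN : h * c.z * h⁻¹ ∈ c.N) (h1 : h * c.z * h⁻¹ ≠ c.z) :
    ∃ l : P, h * c.z * h⁻¹ = c.ι l ∧ l * l = 1 ∧ rho l ≠ 1 := by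
  obtain ⟨l, hl⟩ := c.exists_decomp hN
  obtain ⟨hs, hne⟩ := c.sig_conj_z hN h1
  rw [c.sig_eq hl] at hs hne
  have hl2 : l * l = 1 := (rho_sq hs).resolve_right fun e => c.not_four hN h1 hl e
  set w := h * c.z * h⁻¹ with hw
  set k := (c.ι l)⁻¹ * w with hk
  have hwk : w = c.ι l * k := by rw [hk]; group
  have hkk : k * k = 1 := by
    have h2 : w * w = 1 := c.conj_z_sq h
    rw [hwk] at h2
    calc k * k = c.ι (l * l) * (k * k) := by rw [hl2, map_one, one_mul]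
      _ = c.ι l * (c.ι l * k) * k := by rw [map_mul]; group
      _ = c.ι l * (k * c.ι l) * k := by rw [c.mem_K.1 hl l]
      _ = 1 := by rw [← h2]; group
  by_cases hk1 : k = 1
  · exact ⟨l, by rw [hwk, hk1, mul_one], hl2, hne⟩
  · have hkz : k = c.z := c.invol_K_eq hN h1 hl (orderOf_eq_prime (by rw [pow_two, hkk]) hk1) (by
      rw [← hw, hwk]
      calc k * (c.ι l * k) = (k * c.ι l) * k := by group
        _ = _ := by rw [← c.mem_K.1 hl l])
    refine ⟨l * zP, by rw [hwk, hkz, z, map_mul], ?_, by rwa [map_mul, rho_zP, mul_one]⟩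
    calc l * zP * (l * zP) = l * (zP * l) * zP := by group
      _ = l * (l * zP) * zP := by rw [zP_comm]
      _ = (l * l) * (zP * zP) := by group
      _ = 1 := by rw [hl2, zP_sq, one_mul]

/-- `z` is the only involution of `K`. -/
theorem K_invol [IsSimpleGroup G] {u : G} (hu : u ∈ c.K) (hu2 : orderOf u = 2) : u = c.z := by
  obtain ⟨h, hN, h1⟩ := c.exists_fused
  obtain ⟨l, hl, -, -⟩ := c.conj_mem hN h1
  exact c.invol_K_eq hN h1 hu hu2 (by rw [hl]; exact (c.mem_K.1 hu l).symm)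

end Ctx

end CfsgLib.CoThreeStd
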